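import Cfsg.Agent.H20.SecondMainApps
import Cfsg.Agent.H20.Knorr
import Cfsg.Agent.H12.Linear
import Cfsg.Agent.H12.Induction

/-!
Values on `t W` of an irreducible character when `W` is a normal odd Hall subgroup of the
centraliser of the involution `t` and `μ` is an invariant linear character of `W`
(helper61, after helper64): the second main theorem.
-/

set_option autoImplicit false
set_option linter.style.haveILetI false
set_option linter.unusedSectionVars false

open Cfsg
open scoped ComplexConjugate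

namespace H61.GI

universe u

variable {G : Type u} [Group G] [Fintype G]

/-- The hypotheses on the centraliser of `t`. -/
structure CentData (W : Subgroup G) (t : G) : Prop where
  W_le : W ≤ Subgroup.centralizer ({t} : Set G)
  t_two : orderOf t = 2
  W_odd : Odd (Nat.card W)
  conj_mem : ∀ c ∈ Subgroup.centralizer ({t} : Set G), ∀ w ∈ W, c * w * c⁻¹ ∈ W
  hall : ∀ c ∈ Subgroup.centralizer ({t} : Set G), c ^ Nat.card W = 1 → c ∈ W

theorem sum_conj_irr_dichotomy {C : Type u} [Group C] [Fintype C] {W : Type u} [Group W] [Fintype W]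
    (ι : W →* C) (μ : W →* ℂˣ)
    (hinv : ∀ (c : C) (w : W), ∃ v : W, c * ι w * c⁻¹ = ι v ∧ μ v = μ w) (hι : Function.Injective ι)
    (ξ : IrrCharacter C) :
    (∑ w : W, conj (μ w : ℂ) * (ξ : C → ℂ) (ι w) = 0) ∨
      ∀ w : W, (ξ : C → ℂ) (ι w) = (μ w : ℂ) * (ξ : C → ℂ) 1 := by
  classical
  obtain ⟨n, ρ, hρ, hξ⟩ := ξ.2
  haveI := hρ
  obtain ⟨E, hE⟩ : ∃ E : Module.End ℂ (Fin n → ℂ), E = ∑ w : W, conj (μ w : ℂ) • ρ (ι w) :=
    ⟨_, rfl⟩
  have hcomm : ∀ c : C, E * ρ c = ρ c * E := by
    intro c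
    choose f hf hfμ using hinv c
    have hfb : Function.Bijective f := Finite.injective_iff_bijective.1 fun x y h => by
      have := (hf x).trans ((congrArg ι h).trans (hf y).symm)
      exact hι (mul_left_cancel (mul_right_cancel this))
    rw [hE, Finset.sum_mul, Finset.mul_sum, ← (Equiv.ofBijective f hfb).sum_comp]
    refine Finset.sum_congr rfl fun w _ => ?_
    rw [Equiv.ofBijective_apply, hfμ, smul_mul_assoc, mul_smul_comm, ← map_mul, ← map_mul, ← hf w]
    congr 2
    group
  have hmul : ∀ v : W, ρ (ι v) * E = (μ v : ℂ) • E := by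
    intro v
    rw [hE, Finset.mul_sum, Finset.smul_sum]
    refine Eq.trans (Finset.sum_congr rfl fun w _ => ?_) (Equiv.sum_comp (Equiv.mulLeft v)
      (fun w => (μ v : ℂ) • conj (μ w : ℂ) • ρ (ι w)))
    rw [Equiv.coe_mulLeft, mul_smul_comm, ← map_mul, ← map_mul, smul_smul]
    show _ = ((μ v : ℂ) * conj (μ (v * w) : ℂ)) • ρ (ι (v * w))
    rw [map_mul μ, Units.val_mul, map_mul (starRingEnd ℂ), ← mul_assoc]
    congr 1
    have h1 : (μ v : ℂ) * conj (μ v : ℂ) = 1 := by
      rw [Complex.mul_conj', Complex.norm_eq_one_of_pow_eq_one (n := Nat.card W)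
        (by rw [← Units.val_pow_eq_pow_val, ← map_pow, pow_card_eq_one', map_one, Units.val_one])
        Nat.card_pos.ne']
      simp
    rw [h1, one_mul]
  obtain ⟨c₀, hc₀⟩ := H12.exists_scalar_of_commute ρ E hcomm
  have hξ' : ∀ g : C, (ξ : C → ℂ) g = LinearMap.trace ℂ _ (ρ g) := fun g => by rw [← hξ]; rfl
  by_cases h0 : c₀ = 0
  · left
    simp only [hξ']
    have h1 : LinearMap.trace ℂ _ E = 0 := by rw [hc₀, h0, zero_smul, map_zero]
    rw [hE, map_sum] at h1
    refine Eq.trans (Finset.sum_congr rfl fun w _ => ?_) h1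
    rw [map_smul, smul_eq_mul]
  · right
    intro w
    have h1 := hmul w
    rw [hc₀, mul_smul_comm, mul_one, smul_comm] at h1
    have h2 : ρ (ι w) = (μ w : ℂ) • (1 : Module.End ℂ (Fin n → ℂ)) := smul_right_injective _ h0 h1
    rw [hξ', hξ', h2, map_smul, map_one ρ, smul_eq_mul]

namespace CentData

variable {W : Subgroup G} {t : G} (Q : CentData W t)
include Q

theorem mem_W_of_pow {c : G} (hc : c ∈ Subgroup.centralizer ({t} : Set G))
    (h : c ^ Nat.card W = 1) : c ∈ W := Q.hall c hc h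

variable [Fintype (Subgroup.centralizer ({t} : Set G))] [Fintype W]

/-- The second main theorem at `t`: either `A` is orthogonal to `μ` on `t W`, or it is
proportional to it. -/
theorem dichotomy (μ : W →* ℂˣ) (hfus : ∀ a b : W, IsConj (a : G) (b : G) → μ a = μ b)
    (A : IrrCharacter G) :
    ∑ w : W, (A : G → ℂ) (t * w) * conj (μ w : ℂ) = 0 ∨
      ∀ w : W, (A : G → ℂ) (t * w) = (μ w : ℂ) * (A : G → ℂ) t := by
  classical
  set C := Subgroup.centralizer ({t} : Set G) with hC
  obtain ⟨M, hM⟩ := H20.exists_isPModular Nat.prime_two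
  haveI := H20.isPrime_of_modular hM
  set θ : C → ℂ := fun c => (A : G → ℂ) (t * (c : G)) with hθdef
  have hθ : IsClassFunction C θ := H20.isClassFunction_shift (H12.irr_isClassFunction A) t
  set B := blockOf M (A : G → ℂ) with hB
  -- constituents in blocks inducing the block of `A`
  let P : IrrCharacter C → Prop := fun ξ => IsInducedBlock M C (blockOf M (ξ : C → ℂ)) B
  have hW1 : ∀ w : W, ¬ 2 ∣ orderOf (⟨w, Q.W_le w.2⟩ : C) := fun w => by
    rw [Subgroup.orderOf_mk, Subgroup.orderOf_coe]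
    exact fun h2 => (Nat.not_even_iff_odd.2 Q.W_odd)
      (even_iff_two_dvd.2 (h2.trans (orderOf_dvd_natCard w)))
  have hsplit : ∀ w : W, θ ⟨w, Q.W_le w.2⟩ =
      ∑ ξ : IrrCharacter C,
        if P ξ then classInner θ (ξ : C → ℂ) * (ξ : C → ℂ) ⟨w, Q.W_le w.2⟩ else 0 := by
    intro w
    set θ' : C → ℂ := ∑ ξ : IrrCharacter C,
      (if P ξ then 0 else classInner θ (ξ : C → ℂ)) • (ξ : C → ℂ) with hθ'
    have hθ'cl : IsClassFunction C θ' :=
      H12.IsClassFunction.sum _ fun ξ _ =>
        H12.IsClassFunction.smul (H12.irr_isClassFunction ξ) _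
    have h0 : θ' ⟨w, Q.W_le w.2⟩ = 0 := by
      refine H20.eq_zero_of_blockPart M hθ'cl fun b hb => ?_
      rw [H20.blockPart_eq_sum]
      by_cases hind : IsInducedBlock M C b B
      · refine Finset.sum_eq_zero fun ξ _ => ?_
        split_ifs with hξ
        · rw [hθ', H12.classInner_sum_smul_irr,
            if_pos (show P ξ by rw [H20.block_eq_blockOf hb hξ] at hind; exact hind), zero_mul]
        · rfl
      · have := H20.blockPart_shift_eq_zero hM (x := t) ⟨1, by rw [pow_one]; exact Q.t_two⟩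
          (H20.isPBlock_blockOf A) (H20.mem_blockOf_self A) hb hind ⟨w, Q.W_le w.2⟩ (hW1 w)
        rw [H20.blockPart_eq_sum] at this
        refine Eq.trans (Finset.sum_congr rfl fun ξ _ => ?_) this
        split_ifs with hξ
        · rw [hθ', H12.classInner_sum_smul_irr,
            if_neg (show ¬ P ξ by rw [H20.block_eq_blockOf hb hξ] at hind; exact hind)]
        · rfl
    rw [H12.classFunction_apply_eq_sum hθ, ← sub_eq_zero, ← Finset.sum_sub_distrib]
    refine Eq.trans ?_ h0
    rw [hθ', Finset.sum_apply]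
    refine Finset.sum_congr rfl fun ξ _ => ?_
    split_ifs <;> simp
  -- constituents are either orthogonal to `μ` or multiples of it on `W`
  set S : IrrCharacter C → ℂ := fun ξ =>
    ∑ w : W, conj (μ w : ℂ) * ((ξ : C → ℂ) ⟨w, Q.W_le w.2⟩ / (ξ : C → ℂ) 1) with hS
  have hWne : (Nat.card W : ℂ) ≠ 0 := by exact_mod_cast Nat.card_pos.ne'
  let Mult : IrrCharacter C → Prop := fun ξ =>
    ∀ w : W, (ξ : C → ℂ) ⟨w, Q.W_le w.2⟩ = (μ w : ℂ) * (ξ : C → ℂ) 1
  have hnorm : ∀ w : W, conj (μ w : ℂ) * (μ w : ℂ) = 1 := fun w => by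
    rw [mul_comm, Complex.mul_conj', Complex.norm_eq_one_of_pow_eq_one (n := Nat.card W)
      (by rw [← Units.val_pow_eq_pow_val, ← map_pow, pow_card_eq_one', map_one, Units.val_one])
      Nat.card_pos.ne']
    simp
  have hS1 : ∀ ξ : IrrCharacter C, Mult ξ → S ξ = (Nat.card W : ℂ) := by
    intro ξ h
    show ∑ w : W, _ = _
    rw [Finset.sum_congr rfl (g := fun _ : W => (1 : ℂ)) fun w _ => by
      rw [h w, mul_div_assoc, div_self (H12.irr_apply_one_ne_zero ξ), mul_one, hnorm w]]
    simp [Nat.card_eq_fintype_card]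
  have hS0 : ∀ ξ : IrrCharacter C, ¬ Mult ξ → S ξ = 0 := by
    intro ξ h
    have hd := (sum_conj_irr_dichotomy (C := C) (Subgroup.inclusion Q.W_le) μ (fun c w =>
      ⟨⟨(c : G) * w * (c : G)⁻¹, Q.conj_mem c c.2 w w.2⟩, rfl,
        (hfus w ⟨(c : G) * w * (c : G)⁻¹, Q.conj_mem c c.2 w w.2⟩
          (isConj_iff.2 ⟨c, rfl⟩)).symm⟩) (Subgroup.inclusion_injective _) ξ).resolve_right h
    rw [hS]
    simp only [mul_div_assoc', ← Finset.sum_div]
    exact div_eq_zero_iff.2 (Or.inl hd)
  let st : Setoid W :=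
    { r := fun a b => IsConj (a : G) (b : G)
      iseqv := ⟨fun _ => IsConj.refl _, IsConj.symm, IsConj.trans⟩ }
  haveI : Fintype (Quotient st) := Fintype.ofFinite _
  have hScc : ∀ ξ : IrrCharacter C, ∑ q : Quotient st, conj (μ q.out : ℂ) *
      inducedCentralChar C (ξ : C → ℂ) (q.out : G) = S ξ := by
    intro ξ
    rw [hS]
    refine Eq.trans ?_ (Finset.sum_fiberwise Finset.univ (fun w : W => (Quotient.mk st w))
      (fun w : W => conj (μ w : ℂ) * ((ξ : C → ℂ) ⟨w, Q.W_le w.2⟩ / (ξ : C → ℂ) 1)))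
    refine Finset.sum_congr rfl fun q _ => ?_
    rw [inducedCentralChar, finsum_mem_eq_toFinset_sum, Finset.mul_sum]
    have hmem : ∀ c : C, IsConj (q.out : G) (c : G) → (c : G) ∈ W := fun c hc => by
      refine Q.mem_W_of_pow c.2 ?_
      obtain ⟨g, hg⟩ := isConj_iff.1 hc
      rw [← hg, conj_pow, show ((q.out : G)) ^ Nat.card W = 1 from
        congrArg Subtype.val (pow_card_eq_one' (x := q.out)), mul_one, mul_inv_cancel]
    refine Finset.sum_bij' (fun c hc => (⟨c, hmem c (by simpa using hc)⟩ : W))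
      (fun w _ => (⟨w, Q.W_le w.2⟩ : C)) (fun c hc => ?_) (fun w hw => ?_) (fun c _ => rfl)
      (fun w _ => rfl) (fun c hc => ?_)
    · rw [Finset.mem_filter]
      refine ⟨Finset.mem_univ _, ?_⟩
      refine Eq.trans ?_ (Quotient.out_eq q)
      exact Quotient.sound (show IsConj ((c : G)) (q.out : G) from
        (show IsConj (q.out : G) (c : G) by simpa using hc).symm)
    · rw [Finset.mem_filter] at hw
      have h := Quotient.exact (hw.2.trans (Quotient.out_eq q).symm)
      simpa using (IsConj.symm h)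
    · rw [hfus q.out ⟨c, hmem c (by simpa using hc)⟩ (by simpa using hc)]
  have hsame : ∀ ξ η : IrrCharacter C, P ξ → P η → Mult ξ → Mult η := by
    intro ξ η hξ hη h
    by_contra hne
    have hid : MemLocalIdeal M (S ξ - S η) := by
      rw [← hScc ξ, ← hScc η, ← Finset.sum_sub_distrib]
      refine Finset.sum_induction _ (MemLocalIdeal M) (fun _ _ => H20.memIdeal_add)
        H20.memIdeal_zero fun q _ => ?_
      rw [← mul_sub]
      refine H20.memIdeal_mul ?_ ?_
      · refine H20.memRing_of_pow_eq_one (n := Nat.card W) Nat.card_pos ?_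
        rw [← map_pow, ← Units.val_pow_eq_pow_val, ← map_pow, pow_card_eq_one', map_one,
          Units.val_one, map_one]
      · have h1 := hξ.2.2 ξ (H20.mem_blockOf_self ξ) A (H20.mem_blockOf_self A) (q.out : G)
        have h2 := hη.2.2 η (H20.mem_blockOf_self η) A (H20.mem_blockOf_self A) (q.out : G)
        have h3 := H20.memIdeal_add h1 (H20.memIdeal_mul
          (H20.memRing_neg (H20.memRing_of_isIntegral isIntegral_one)) h2)
        rwa [neg_one_mul, ← sub_eq_add_neg, sub_sub_sub_cancel_right] at h3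
    rw [hS1 ξ h, hS0 η hne, sub_zero, H20.natCast_memIdeal_iff hM] at hid
    exact (Nat.not_even_iff_odd.2 Q.W_odd) (even_iff_two_dvd.2 hid)
  by_cases hex : ∃ ξ, P ξ ∧ Mult ξ
  · right
    obtain ⟨ξ₀, hξ₀, hres₀⟩ := hex
    have hval : ∀ w : W, θ ⟨w, Q.W_le w.2⟩ = (μ w : ℂ) *
        ∑ ξ : IrrCharacter C, if P ξ then classInner θ (ξ : C → ℂ) * (ξ : C → ℂ) 1 else 0 := by
      intro w
      rw [hsplit w, Finset.mul_sum]
      refine Finset.sum_congr rfl fun ξ _ => ?_
      split_ifs with hξ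
      · rw [hsame ξ₀ ξ hξ₀ hξ hres₀ w]; ring
      · rw [mul_zero]
    intro w
    have h1 : θ ⟨((1 : W) : G), Q.W_le (1 : W).2⟩ = (A : G → ℂ) t := by
      rw [hθdef]; simp
    show θ ⟨w, Q.W_le w.2⟩ = _
    rw [← h1, hval w, hval 1, map_one, Units.val_one, one_mul]
  · left
    show ∑ w : W, θ ⟨w, Q.W_le w.2⟩ * conj (μ w : ℂ) = 0
    simp only [hsplit, Finset.sum_mul]
    rw [Finset.sum_comm]
    refine Finset.sum_eq_zero fun ξ _ => ?_
    by_cases hξ : P ξ
    · simp only [if_pos hξ, mul_assoc, ← Finset.mul_sum]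
      refine mul_eq_zero_of_right _ ?_
      have h0 := hS0 ξ fun e => hex ⟨ξ, hξ, e⟩
      rw [hS] at h0
      simp only [mul_div_assoc', ← Finset.sum_div, div_eq_zero_iff,
        H12.irr_apply_one_ne_zero ξ, or_false] at h0
      rw [← h0]
      exact Finset.sum_congr rfl fun w _ => mul_comm _ _
    · simp [if_neg hξ]

end CentData

end H61.GI
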