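import Cfsg.Agent.H61.GI.Count
import Cfsg.Agent.H61.GI.Block
import Cfsg.Agent.H12.Products
import Cfsg.Agent.H25.Galois

/-!
Values on the cosets `t W` of the constituents of the induced character (helper61).
-/

set_option autoImplicit false
set_option linter.style.haveILetI false
set_option linter.unusedSectionVars false

open Cfsg
open scoped ComplexConjugate

namespace H61.GI

open Subgroup

universe u

variable {G : Type u} [Group G] [Fintype G]

/-- A character of norm two has two simple constituents. -/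
theorem exists_two_irr {φ : G → ℂ} (hφ : IsCharacter G φ) (h : classInner φ φ = 2) :
    ∃ A B : IrrCharacter G, A ≠ B ∧ φ = (A : G → ℂ) + (B : G → ℂ) ∧
      classInner φ A = 1 ∧ classInner φ B = 1 := by
  classical
  obtain ⟨m, rfl⟩ := H12.IsCharacter.exists_mult hφ
  rw [H12.classInner_sum_smul_sum_smul] at h
  have h' : ∑ χ, m χ * m χ = 2 := by
    have : ((∑ χ, m χ * m χ : ℕ) : ℂ) = ((2 : ℕ) : ℂ) := by
      push_cast; simpa using h
    exact_mod_cast this
  have h1 : ∀ χ, m χ ≠ 0 → m χ = 1 := by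
    intro χ hχ
    have hle := Finset.single_le_sum (f := fun χ => m χ * m χ) (fun _ _ => Nat.zero_le _)
      (Finset.mem_univ χ)
    simp only [h'] at hle
    by_contra hne
    have : 2 * 2 ≤ m χ * m χ := Nat.mul_le_mul (by omega) (by omega)
    omega
  obtain ⟨A, B, hAB, hS⟩ : ∃ A B, A ≠ B ∧ (Finset.univ.filter fun χ => m χ ≠ 0) = {A, B} := by
    rw [← Finset.card_eq_two, Finset.card_filter, ← h']
    refine Finset.sum_congr rfl fun χ _ => ?_
    split_ifs with hχ
    · rw [h1 χ hχ]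
    · rw [not_not.1 hχ]
  have hA : A ∈ Finset.univ.filter fun χ => m χ ≠ 0 := hS ▸ Finset.mem_insert_self _ _
  have hB : B ∈ Finset.univ.filter fun χ => m χ ≠ 0 :=
    hS ▸ Finset.mem_insert_of_mem (Finset.mem_singleton_self _)
  rw [Finset.mem_filter] at hA hB
  refine ⟨A, B, hAB, ?_, ?_, ?_⟩
  · rw [← Finset.sum_subset (Finset.subset_univ ({A, B} : Finset _)), Finset.sum_pair hAB,
      h1 A hA.2, h1 B hB.2]
    · simp
    · intro χ _ hχ
      rw [show m χ = 0 by
        by_contra hne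
        exact hχ (hS ▸ Finset.mem_filter.2 ⟨Finset.mem_univ _, hne⟩)]
      simp
  · rw [H12.classInner_sum_smul_irr, h1 A hA.2, Nat.cast_one]
  · rw [H12.classInner_sum_smul_irr, h1 B hB.2, Nat.cast_one]

/-- The Bessel inequality for two irreducible characters. -/
theorem bessel_two {A B : IrrCharacter G} (hne : A ≠ B) {f : G → ℂ} (hf : IsClassFunction G f) :
    ‖classInner f (A : G → ℂ)‖ ^ 2 + ‖classInner f (B : G → ℂ)‖ ^ 2 ≤ (classInner f f).re := by
  classical
  rw [H12.classInner_eq_sum_mul hf hf, Complex.re_sum]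
  simp only [Complex.mul_conj', ← Complex.ofReal_pow, Complex.ofReal_re]
  rw [← Finset.sum_pair (f := fun χ : IrrCharacter G => ‖classInner f (χ : G → ℂ)‖ ^ 2) hne]
  exact Finset.sum_le_sum_of_subset_of_nonneg (Finset.subset_univ _) fun _ _ _ => sq_nonneg _

namespace Base

variable {H W T : Subgroup G} {z : G} (B : Base G H W T z)
include B

/-- The restriction of `μ` to `W`. -/
abbrev muW (μ : H →* ℂˣ) : W →* ℂˣ := μ.comp (Subgroup.inclusion B.S.W_le)

theorem centralizer_le {t : G} (ht : t ∈ T) (ht1 : t ≠ 1) :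
    Subgroup.centralizer ({t} : Set G) ≤ Ker H T := by
  intro c hc
  have hc' := Subgroup.mem_centralizer_singleton_iff.1 hc
  have ht2 := B.S.orderOf_two ht ht1
  have hcH : c ∈ H := H65.se_conj_mem B.S.se (t := t) ht2 (B.S.T_le ht) (by
    rw [mul_assoc, ← hc', inv_mul_cancel_left]; exact B.S.T_le ht)
  exact B.mem_Ker.2 ⟨hcH, B.triv_of_commute hcH (B.S.T_le ht) ht2 hc'⟩

theorem Ker_comm {k t : G} (hk : k ∈ Ker H T) (ht : t ∈ T) : k * t = t * k := (hk.2 t ht).symm

theorem centData {t : G} (ht : t ∈ T) (ht1 : t ≠ 1) : CentData W t where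
  W_le w hw := Subgroup.mem_centralizer_singleton_iff.2 (B.comm_WT hw ht).symm
  t_two := B.S.orderOf_two ht ht1
  W_odd := B.S.W_odd
  conj_mem c hc w hw := B.S.W_conj c (B.centralizer_le ht ht1 hc).1 w hw
  hall c hc h := B.odd_mem_W (B.centralizer_le ht ht1 hc)
    (B.S.W_odd.of_dvd_nat (orderOf_dvd_of_pow_eq_one h))

theorem pow_tw {t w : G} (ht : t ∈ T) (hw : w ∈ W) : (t * w) ^ Nat.card W = t := by
  obtain ⟨j, hj⟩ := B.S.W_odd
  rw [(show Commute t w from B.comm_WT hw ht).mul_pow,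
    show w ^ Nat.card W = 1 from congrArg Subtype.val (pow_card_eq_one' (x := (⟨w, hw⟩ : W))),
    mul_one, hj, pow_succ, pow_mul, pow_two, B.S.T_sq t ht, one_pow, one_mul]

theorem perm_tw {t w : G} (ht : t ∈ T) (ht1 : t ≠ 1) (hw : w ∈ W) : perm H (t * w) = 1 := by
  classical
  rw [perm_apply, Finset.sum_boole]
  have h : (Finset.univ.filter fun x : G => (t * w) • (x : G ⧸ H) = (x : G ⧸ H)).card =
      Nat.card H := by
    rw [Nat.card_eq_fintype_card, Fintype.card_subtype]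
    congr 1
    refine Finset.filter_congr fun x _ => ?_
    have htw : t * w ∈ H := mul_mem (B.S.T_le ht) (B.S.W_le hw)
    constructor
    · intro h
      have h' : t • (x : G ⧸ H) = (x : G ⧸ H) := by
        rw [← B.pow_tw ht hw]
        exact MulAction.mem_stabilizer_iff.1
          (pow_mem (MulAction.mem_stabilizer_iff.2 h) (Nat.card W))
      have := B.fix_unique (B.S.orderOf_two ht ht1) h' ((smul_pa_iff H).2 (B.S.T_le ht))
      rwa [← smul_pa, smul_pa_iff] at this
    · intro hx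
      rw [← smul_pa, (smul_pa_iff H).2 hx]
      exact (smul_pa_iff H).2 htw
  rw [h, inv_mul_cancel₀ (by exact_mod_cast Nat.card_pos.ne')]

variable (μ : H →* ℂˣ)
  (hμz : ∀ (x : G) (hx : x ∈ Dz H z),
    μ ⟨z * x * z, B.D_le (B.inv_mem_D_conj hx)⟩ = μ ⟨x, B.D_le hx⟩)
  (hodd : ∀ h : H, ∃ n : ℕ, Odd n ∧ μ h ^ n = 1)

include hodd in
theorem mu_T {s : G} (hs : s ∈ T) : μ ⟨s, B.S.T_le hs⟩ = 1 :=
  B.mu_two μ hodd (B.S.T_le hs) (j := 1) (by rw [pow_one, pow_two]; exact B.S.T_sq s hs)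

include hμz hodd in
theorem ind_tw {t w : G} (ht : t ∈ T) (ht1 : t ≠ 1) (hw : w ∈ W) :
    indFun H (lin μ) (t * w) = (μ ⟨w, B.S.W_le hw⟩ : ℂ) := by
  show indFun H (lin μ) ((⟨t * w, mul_mem (B.S.T_le ht) (B.S.W_le hw)⟩ : H) : G) = _
  rw [B.ind_apply μ hμz, show (⟨t * w, mul_mem (B.S.T_le ht) (B.S.W_le hw)⟩ : H) =
    ⟨t, B.S.T_le ht⟩ * ⟨w, B.S.W_le hw⟩ from Subtype.ext rfl, map_mul, B.mu_T μ hodd ht, one_mul]
  show _ * perm H (t * w) = _
  rw [B.perm_tw ht ht1 hw, mul_one]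

include hμz in
theorem fus (a b : W) (hab : IsConj (a : G) (b : G)) : B.muW μ a = B.muW μ b := by
  obtain ⟨g, hg⟩ := isConj_iff.1 hab
  have h1 : g⁻¹⁻¹ * (a : G) * g⁻¹ ∈ H := by rw [inv_inv, hg]; exact B.S.W_le b.2
  have h2 := B.mu_fusion μ hμz (B.S.W_le a.2) h1
  rw [show (⟨g⁻¹⁻¹ * (a : G) * g⁻¹, h1⟩ : H) = ⟨b, B.S.W_le b.2⟩ from
    Subtype.ext (by show g⁻¹⁻¹ * (a : G) * g⁻¹ = b; rw [inv_inv, hg])] at h2
  exact h2.symm

/-- The class function at `t W`. -/
noncomputable abbrev gt (t : G) : Ker H T → ℂ := by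
  classical
  exact fun u => if h : t * (u : G) ∈ W then (μ ⟨t * (u : G), B.S.W_le h⟩ : ℂ) else 0

theorem sum_gt [Fintype (Ker H T)] [Fintype W] {t : G} (ht : t ∈ T) (F : G → ℂ) :
    ∑ u : Ker H T, B.gt μ t u * F u = ∑ w : W, (B.muW μ w : ℂ) * F (t * w) := by
  classical
  refine (Fintype.sum_of_injective
    (fun w : W => (⟨t * w, mul_mem (B.T_le_Ker ht) (B.W_le_Ker w.2)⟩ : Ker H T))
    (fun a b hab => Subtype.ext (mul_left_cancel (congrArg Subtype.val hab))) _ _
    (fun u hu => ?_) fun w => ?_).symm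
  · show B.gt μ t u * F u = 0
    rw [gt, dif_neg, zero_mul]
    intro hmem
    refine hu ⟨⟨_, hmem⟩, Subtype.ext ?_⟩
    show t * (t * (u : G)) = u
    rw [← mul_assoc, B.S.T_sq t ht, one_mul]
  · have e : t * (t * (w : G)) = w := by rw [← mul_assoc, B.S.T_sq t ht, one_mul]
    have h : t * (t * (w : G)) ∈ W := by rw [e]; exact w.2
    show _ = B.gt μ t ⟨t * w, _⟩ * F (t * w)
    rw [gt, dif_pos h, show (⟨t * (t * (w : G)), B.S.W_le h⟩ : H) = ⟨w, B.S.W_le w.2⟩ from
      Subtype.ext e]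
    rfl

include hμz in
theorem ind_gt [Fintype (Ker H T)] {t w : G} (ht : t ∈ T) (ht1 : t ≠ 1) (hw : w ∈ W) :
    indFun (Ker H T) (B.gt μ t) (t * w) = (μ ⟨w, B.S.W_le hw⟩ : ℂ) := by
  classical
  rw [H12.indFun_apply]
  have e1 : ∀ x : G, extendByZero (Ker H T) (B.gt μ t) (x⁻¹ * (t * w) * x) =
      if x ∈ Ker H T then (μ ⟨w, B.S.W_le hw⟩ : ℂ) else 0 := by
    intro x
    split_ifs with hx
    · have h0 : x⁻¹ * (t * w) * x = t * (x⁻¹ * w * x) := by
        rw [show x⁻¹ * (t * w) * x = x⁻¹ * t * (w * x) by group,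
          show x⁻¹ * t = t * x⁻¹ from B.Ker_comm (inv_mem hx) ht]
        group
      have hW : x⁻¹ * w * x ∈ W := B.S.W_conj' hx.1 hw
      have hm : t * (x⁻¹ * w * x) ∈ Ker H T := mul_mem (B.T_le_Ker ht) (B.W_le_Ker hW)
      have e : t * (t * (x⁻¹ * w * x)) = x⁻¹ * w * x := by
        rw [← mul_assoc, B.S.T_sq t ht, one_mul]
      have hh : t * (t * (x⁻¹ * w * x)) ∈ W := by rw [e]; exact hW
      rw [h0, H12.extendByZero_mk (Ker H T) (B.gt μ t) hm, gt, dif_pos hh]
      refine congrArg Units.val ?_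
      rw [show (⟨t * (t * (x⁻¹ * w * x)), B.S.W_le hh⟩ : H) =
        ⟨x⁻¹ * w * x, B.S.W_le hW⟩ from Subtype.ext e]
      exact B.mu_fusion μ hμz (B.S.W_le hw) (B.S.W_le hW)
    · rw [H12.extendByZero_eq_dite]
      split_ifs with hm
      · rw [gt, dif_neg]
        intro hmem
        apply hx
        refine B.centralizer_le ht ht1 (Subgroup.mem_centralizer_singleton_iff.2 ?_)
        have hp : (x⁻¹ * (t * w) * x) ^ Nat.card W = x⁻¹ * t * x := by
          have h1 := conj_pow (i := Nat.card W) (a := x⁻¹) (b := t * w)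
          rw [inv_inv, B.pow_tw ht hw] at h1
          exact h1
        have h2 : (x⁻¹ * (t * w) * x) ^ Nat.card W = t := by
          have h3 : x⁻¹ * (t * w) * x = t * (t * (x⁻¹ * (t * w) * x)) := by
            rw [← mul_assoc t t, B.S.T_sq t ht, one_mul]
          rw [h3]
          exact B.pow_tw ht hmem
        have h4 := hp.symm.trans h2
        rw [mul_assoc, inv_mul_eq_iff_eq_mul] at h4
        exact h4.symm
      · rfl
  simp only [e1]
  rw [Finset.sum_ite, Finset.sum_const_zero, add_zero, Finset.sum_const, nsmul_eq_mul,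
    show (Finset.univ.filter fun x : G => x ∈ Ker H T).card = Nat.card (Ker H T) by
      rw [Nat.card_eq_fintype_card, Fintype.card_subtype], ← mul_assoc,
    inv_mul_cancel₀ (by exact_mod_cast Nat.card_pos.ne'), one_mul]

include hμz in
/-- The bound on the values at `t`. -/
theorem bound {t : G} (ht : t ∈ T) (ht1 : t ≠ 1) {A A' : IrrCharacter G} (hne : A ≠ A') {α α' : ℤ}
    (hA : ∀ w : W, (A : G → ℂ) (t * w) = (B.muW μ w : ℂ) * (α : ℂ))
    (hA' : ∀ w : W, (A' : G → ℂ) (t * w) = (B.muW μ w : ℂ) * (α' : ℂ)) :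
    α ^ 2 + α' ^ 2 ≤ (W.relIndex (Ker H T) : ℤ) := by
  classical
  haveI : Fintype (Ker H T) := Fintype.ofFinite _
  haveI : Fintype W := Fintype.ofFinite _
  set f := indFun (Ker H T) (B.gt μ t) with hfdef
  have hf : IsClassFunction G f := H12.indFun_isClassFunction _ _
  have hval : ∀ (X : IrrCharacter G) (a : ℤ),
      (∀ w : W, (X : G → ℂ) (t * w) = (B.muW μ w : ℂ) * (a : ℂ)) →
      classInner f (X : G → ℂ) = (Nat.card W : ℂ) * a / (Nat.card (Ker H T) : ℂ) := by
    intro X a hX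
    rw [hfdef, H12.classInner_indFun _ _ (H12.irr_isClassFunction X), H12.classInner_def,
      B.sum_gt μ ht (fun g => conj ((X : G → ℂ) g)), div_eq_inv_mul]
    congr 1
    rw [Finset.sum_congr rfl (g := fun _ : W => (a : ℂ)) fun w _ => by
      rw [hX w, map_mul, ← mul_assoc, conj_val, one_mul, map_intCast]]
    simp [Nat.card_eq_fintype_card]
  have hff : classInner f f = (Nat.card W : ℂ) / (Nat.card (Ker H T) : ℂ) := by
    conv_lhs => arg 1; rw [hfdef]
    rw [H12.classInner_indFun _ _ hf, H12.classInner_def,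
      B.sum_gt μ ht (fun g => conj (f g)), div_eq_inv_mul]
    congr 1
    rw [Finset.sum_congr rfl (g := fun _ : W => (1 : ℂ)) fun w _ => by
      rw [hfdef, B.ind_gt μ hμz ht ht1 w.2]
      exact conj_val (B.muW μ) w]
    simp [Nat.card_eq_fintype_card]
  have h := bessel_two hne hf
  rw [hval A α hA, hval A' α' hA', hff] at h
  have hK : Nat.card (Ker H T) = Nat.card W * W.relIndex (Ker H T) :=
    (H82.card_mul_relIndex B.W_le_Ker).symm
  have hw0 : (0 : ℝ) < Nat.card W := by exact_mod_cast Nat.card_pos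
  have hk0 : (0 : ℝ) < Nat.card (Ker H T) := by exact_mod_cast Nat.card_pos
  simp only [norm_div, norm_mul, Complex.norm_natCast, Complex.norm_intCast, div_pow, mul_pow,
    sq_abs, Complex.div_natCast_re, Complex.natCast_re] at h
  rw [← add_div, ← mul_add, div_le_div_iff₀ (by positivity) hk0] at h
  have hR : ((α : ℝ) ^ 2 + (α' : ℝ) ^ 2) * (Nat.card W : ℝ) ≤ (Nat.card (Ker H T) : ℝ) := by
    refine le_of_mul_le_mul_left ?_ (mul_pos hw0 hk0)
    linear_combination h
  rw [hK, Nat.cast_mul, mul_comm] at hR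
  have := le_of_mul_le_mul_left hR hw0
  exact_mod_cast this

end Base

end H61.GI
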