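import Cfsg.Agent.H61.GI.Basic
import Cfsg.Agent.H79.CoprimeGen
import Cfsg.Agent.H82.SylowIn

/-!
The two-point stabilisers in the minimal situation of `H61.GI` (helper61, adapted from helper64).
-/

set_option autoImplicit false
set_option linter.style.haveILetI false
set_option linter.unusedSectionVars false

namespace H61.GI

open Subgroup

universe u

variable {G : Type u} [Group G]

/-- A minimal situation with a chosen involution outside `H`. -/
structure Base (G : Type u) [Group G] (H W T : Subgroup G) (z : G) : Prop where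
  S : Setup G H W T
  core : H.normalCore = ⊥
  z2 : orderOf z = 2
  zH : z ∉ H
  oracle : Oracle H W T
  ih : ∀ M : Subgroup G, M ≠ ⊤ → ∀ H' W' T' : Subgroup M, Setup M H' W' T' → Oracle H' W' T' →
    Good H' W'

/-- The point `H`. -/
abbrev pa (H : Subgroup G) : G ⧸ H := ((1 : G) : G ⧸ H)

/-- The point `z H`. -/
abbrev pb (H : Subgroup G) (z : G) : G ⧸ H := (z : G ⧸ H)

/-- The two-point stabiliser. -/
abbrev Dz (H : Subgroup G) (z : G) : Subgroup G := H80.SE.St G (pa H) (pb H z)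

theorem smul_pa (H : Subgroup G) (g : G) : g • pa H = (g : G ⧸ H) := by
  rw [MulAction.Quotient.smul_coe, smul_eq_mul, mul_one]

theorem smul_pa_iff [Finite G] (H : Subgroup G) {g : G} : g • pa H = pa H ↔ g ∈ H :=
  H29SEB.smul_one_coset_iff

namespace Base

variable [Finite G] {H W T : Subgroup G} {z : G} (B : Base G H W T z)
include B

theorem ctx : H80.SE.Ctx (fun i : G => orderOf i = 2) (H29SEB.fixPt H) := H29SEB.se_ctx B.S.se

theorem fix_unique {i : G} (hi : orderOf i = 2) {x y : G ⧸ H} (hx : i • x = x) (hy : i • y = y) :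
    x = y := H29SEB.fixed_unique B.S.se hi hx hy

theorem fix_of_commute {g i : G} (hi : orderOf i = 2) (h : Commute g i) :
    g • H29SEB.fixPt H i = H29SEB.fixPt H i := by
  haveI : Nontrivial (G ⧸ H) := ⟨⟨pb H z, pa H, fun e => B.zH (by
    have h' := QuotientGroup.eq.1 e
    rw [mul_one] at h'
    exact inv_mem_iff.1 h')⟩⟩
  exact H29SEB.smul_pt_of_commute B.ctx hi h

theorem z_smul_pa : z • pa H = pb H z := smul_pa H z

theorem z_smul_pb : z • pb H z = pa H := by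
  rw [← B.z_smul_pa, ← mul_smul, H70.mul_self_of_two B.z2, one_smul]

theorem pb_ne : pb H z ≠ pa H := fun h => B.zH (by
  rw [← smul_pa_iff, B.z_smul_pa, h])

theorem D_le : Dz H z ≤ H := fun _ hd => (smul_pa_iff H).1 hd.1

theorem D_odd : Odd (Nat.card (Dz H z)) := by
  rcases Nat.even_or_odd (Nat.card (Dz H z)) with he | ho
  · obtain ⟨t, htS, ht⟩ := H65.exists_two_mem he
    exact absurd (B.fix_unique ht htS.2 htS.1) B.pb_ne
  · exact ho

theorem odd_of_mem_D {d : G} (hd : d ∈ Dz H z) : Odd (orderOf d) :=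
  B.D_odd.of_dvd_nat (Subgroup.orderOf_dvd_natCard _ hd)

theorem exists_t : ∃ t ∈ T, t ≠ 1 := by
  refine (T.ne_bot_iff_exists_ne_one.1 fun h => ?_).elim fun x hx =>
    ⟨x, x.2, fun e => hx (Subtype.ext e)⟩
  have := B.S.four_le
  rw [h, Subgroup.card_bot] at this
  omega

theorem exists_two_t : ∃ s ∈ T, ∃ t ∈ T, s ≠ 1 ∧ t ≠ 1 ∧ s ≠ t := by
  classical
  obtain ⟨t, ht, ht1⟩ := B.exists_t
  by_contra hcon
  push Not at hcon
  have hle : T ≤ zpowers t := fun s hs => by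
    by_cases hs1 : s = 1
    · rw [hs1]; exact one_mem _
    · rw [hcon s hs t ht hs1 ht1]; exact mem_zpowers t
  have h := Nat.le_of_dvd Nat.card_pos (card_dvd_of_le hle)
  rw [Nat.card_zpowers, B.S.orderOf_two ht ht1] at h
  have := B.S.four_le
  omega

/-- Transitivity on pairs. -/
theorem two_trans {x y x' y' : G ⧸ H} (hxy : x ≠ y) (hxy' : x' ≠ y') :
    ∃ g : G, g • x = x' ∧ g • y = y' := by
  have key : ∀ w : G ⧸ H, w ≠ pa H → ∃ h ∈ H, h • w = pb H z := by
    intro w hw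
    obtain ⟨g, rfl⟩ := QuotientGroup.mk_surjective w
    obtain ⟨s, hs, t, ht, hs1, ht1, hst⟩ := B.exists_two_t
    have hg : g ∉ H := fun hg => hw (QuotientGroup.eq.2 (by simpa using hg))
    obtain ⟨h, hh, hmem⟩ := H29SEB.transitive_off B.S.se (B.S.orderOf_two hs hs1)
      (B.S.orderOf_two ht ht1) hst (B.S.comm hs ht) hg B.zH
    refine ⟨h, hh, ?_⟩
    rw [MulAction.Quotient.smul_coe, smul_eq_mul]
    exact (QuotientGroup.eq.2 hmem).symm
  have std : ∀ v w : G ⧸ H, v ≠ w → ∃ g : G, g • v = pa H ∧ g • w = pb H z := by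
    intro v w hvw
    obtain ⟨g, rfl⟩ := QuotientGroup.mk_surjective v
    have hv : g⁻¹ • (g : G ⧸ H) = pa H := by
      rw [← smul_pa H g, inv_smul_smul]
    obtain ⟨h, hh, hw⟩ := key (g⁻¹ • w) fun e => hvw (MulAction.injective g⁻¹ (hv.trans e.symm))
    exact ⟨h * g⁻¹, by rw [mul_smul, hv, (smul_pa_iff H).2 hh], by rw [mul_smul, hw]⟩
  obtain ⟨g, g1, g2⟩ := std x y hxy
  obtain ⟨g', g'1, g'2⟩ := std x' y' hxy'
  exact ⟨g'⁻¹ * g, by rw [mul_smul, g1, ← g'1, inv_smul_smul],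
    by rw [mul_smul, g2, ← g'2, inv_smul_smul]⟩

/-- `D` is transitive on the involutions of `H`. -/
theorem exists_D_conj {s t : G} (hsH : s ∈ H) (hs : orderOf s = 2) (htH : t ∈ H)
    (ht : orderOf t = 2) : ∃ d ∈ Dz H z, d * s * d⁻¹ = t := by
  obtain ⟨d, hd, hzd, -, hds⟩ := H67.exists_inverted_conj B.S.se B.z2 B.zH hs hsH ht htH
  refine ⟨d, ⟨(smul_pa_iff H).2 hd, H65.smul_coset_eq_iff.2 hzd⟩, hds⟩

theorem inv_mem_D_conj {d : G} (hd : d ∈ Dz H z) : z * d * z ∈ Dz H z := by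
  refine ⟨?_, ?_⟩
  · show (z * d * z) • pa H = pa H
    rw [mul_smul, mul_smul, B.z_smul_pa, show d • pb H z = pb H z from hd.2, B.z_smul_pb]
  · show (z * d * z) • pb H z = pb H z
    rw [mul_smul, mul_smul, B.z_smul_pb, show d • pa H = pa H from hd.1, B.z_smul_pa]

theorem triv_mem_W {d : G} (hd : d ∈ Dz H z) (ht : Triv W T d) : d ∈ W :=
  B.S.odd_act d (B.D_le hd) (B.odd_of_mem_D hd) ht

theorem K_triv {d : G} (hd : d ∈ Dz H z ⊓ W) : Triv W T d :=
  B.S.triv_of_mem_sup (mem_sup_left hd.2)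

theorem K_conj {d k : G} (hd : d ∈ Dz H z) (hk : k ∈ Dz H z ⊓ W) : d * k * d⁻¹ ∈ Dz H z ⊓ W :=
  ⟨(Dz H z).mul_mem ((Dz H z).mul_mem hd hk.1) ((Dz H z).inv_mem hd), B.S.W_conj d (B.D_le hd) k hk.2⟩

theorem K_normal : ((Dz H z ⊓ W).subgroupOf (Dz H z)).Normal :=
  ⟨fun k hk d => B.K_conj d.2 hk⟩

theorem relIndex_K : (Dz H z ⊓ W).relIndex (Dz H z) = Nat.card T - 1 := by
  classical
  obtain ⟨t, ht, ht1⟩ := B.exists_t
  have hex : ∀ d : Dz H z, ∃ r : {r : T // r ≠ 1}, (d : G) * t * (d : G)⁻¹ * ((r : T) : G) ∈ W := by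
    intro d
    have hi : orderOf ((d : G) * t * (d : G)⁻¹) = 2 := H67.invol_conj (B.S.orderOf_two ht ht1) _
    have hiH : (d : G) * t * (d : G)⁻¹ ∈ H :=
      mul_mem (mul_mem (B.D_le d.2) (B.S.T_le ht)) (inv_mem (B.D_le d.2))
    obtain ⟨r, hr, hrW⟩ := B.S.invol _ hiH hi
    refine ⟨⟨⟨r, hr⟩, fun e => ?_⟩, hrW⟩
    rw [show r = 1 from congrArg Subtype.val e, mul_one] at hrW
    have := B.S.odd_of_mem_W hrW
    rw [hi] at this
    exact absurd this (by decide)
  choose f hf using hex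
  have huniq : ∀ (d : Dz H z) (r : T), (d : G) * t * (d : G)⁻¹ * (r : G) ∈ W →
      ((f d : T) : G) = r := by
    intro d r hr
    have h := mul_mem (inv_mem (hf d)) hr
    rw [show ((d : G) * t * (d : G)⁻¹ * ((f d : T) : G))⁻¹ * ((d : G) * t * (d : G)⁻¹ * (r : G)) =
      ((f d : T) : G)⁻¹ * (r : G) by group, B.S.inv_self (f d : T).2] at h
    exact B.S.eq_of_mul_mem (f d : T).2 r.2 h
  have hrel : ∀ d e : Dz H z, f d = f e ↔ d⁻¹ * e ∈ (Dz H z ⊓ W).subgroupOf (Dz H z) := by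
    intro d e
    have hfe := hf e
    constructor
    · intro h
      rw [← h] at hfe
      refine ⟨(d⁻¹ * e).2, B.triv_mem_W (d⁻¹ * e).2 ?_⟩
      have h1 := mul_mem hfe (inv_mem (hf d))
      have h2 : (e : G) * t * (e : G)⁻¹ * ((f d : T) : G) *
          ((d : G) * t * (d : G)⁻¹ * ((f d : T) : G))⁻¹ =
          (e : G) * t * (e : G)⁻¹ * ((d : G) * t⁻¹ * (d : G)⁻¹) := by group
      rw [h2, B.S.inv_self ht] at h1
      refine B.S.act _ (B.D_le (d⁻¹ * e).2) t ht ht1 ?_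
      have h3 := B.S.W_conj' (B.D_le d.2) h1
      rwa [show (d : G)⁻¹ * ((e : G) * t * (e : G)⁻¹ * ((d : G) * t * (d : G)⁻¹)) * (d : G) =
        ((d⁻¹ * e : Dz H z) : G) * t * ((d⁻¹ * e : Dz H z) : G)⁻¹ * t by
        rw [Subgroup.coe_mul, Subgroup.coe_inv]; group] at h3
    · intro h
      refine Subtype.ext (Subtype.ext (huniq d _ ?_))
      have h3 := inv_mem (B.S.W_conj d (B.D_le d.2) _ (B.S.triv_of_mem_sup
        (mem_sup_left (show ((d⁻¹ * e : Dz H z) : G) ∈ W from h.2)) t ht))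
      rw [Subgroup.coe_mul, Subgroup.coe_inv, show ((d : G) * ((d : G)⁻¹ * (e : G) * t *
        ((d : G)⁻¹ * (e : G))⁻¹ * t) * (d : G)⁻¹)⁻¹ =
        (d : G) * t⁻¹ * (d : G)⁻¹ * ((e : G) * t⁻¹ * (e : G)⁻¹) by group, B.S.inv_self ht] at h3
      have h4 := mul_mem h3 hfe
      rwa [show (d : G) * t * (d : G)⁻¹ * ((e : G) * t * (e : G)⁻¹) *
        ((e : G) * t * (e : G)⁻¹ * ((f e : T) : G)) =
        (d : G) * t * (d : G)⁻¹ * ((e : G) * (t * t) * (e : G)⁻¹ * ((f e : T) : G)) by group,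
        B.S.T_sq t ht, mul_one, mul_inv_cancel, one_mul] at h4
  have hbij : Function.Bijective
      (Quotient.lift f (fun d e h => (hrel d e).2 (QuotientGroup.leftRel_apply.1 h)) :
        (Dz H z) ⧸ (Dz H z ⊓ W).subgroupOf (Dz H z) → {r : T // r ≠ 1}) := by
    constructor
    · intro x y
      induction x using Quotient.inductionOn with
      | h d =>
        induction y using Quotient.inductionOn with
        | h e => exact fun h => QuotientGroup.eq.2 ((hrel d e).1 h)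
    · rintro ⟨⟨r, hr⟩, hr1⟩
      have hr1' : r ≠ 1 := fun e => hr1 (Subtype.ext e)
      obtain ⟨d, hd, hdr⟩ := B.exists_D_conj (B.S.T_le ht) (B.S.orderOf_two ht ht1) (B.S.T_le hr)
        (B.S.orderOf_two hr hr1')
      refine ⟨Quotient.mk _ (⟨d, hd⟩ : Dz H z), Subtype.ext (Subtype.ext (huniq ⟨d, hd⟩ ⟨r, hr⟩ ?_))⟩
      show d * t * d⁻¹ * r ∈ W
      rw [hdr, B.S.T_sq r hr]
      exact one_mem _
  show ((Dz H z ⊓ W).subgroupOf (Dz H z)).index = _
  rw [Subgroup.index]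
  refine (Nat.card_congr (Equiv.ofBijective _ hbij)).trans ?_
  haveI := Fintype.ofFinite T
  rw [Nat.card_eq_fintype_card, Nat.card_eq_fintype_card, Fintype.card_subtype_compl,
    Fintype.card_subtype_eq]

theorem exists_not_K : ∃ d ∈ Dz H z, d ∉ W := by
  by_contra h
  push Not at h
  have h1 := B.relIndex_K
  rw [Subgroup.relIndex_eq_one.2 (le_inf le_rfl h)] at h1
  have := B.S.four_le
  omega

theorem pow_mem_K {d : G} (hd : d ∈ Dz H z) : d ^ (Nat.card T - 1) ∈ Dz H z ⊓ W := by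
  haveI := B.K_normal
  rw [← B.relIndex_K]
  exact Subgroup.pow_index_mem ((Dz H z ⊓ W).subgroupOf (Dz H z)) ⟨d, hd⟩

/-- Sylow subgroups of `D` for primes prime to `|T| - 1` lie in `W`. -/
theorem le_W_of_ne {p : ℕ} (hp : p.Prime) (hne : ¬ p ∣ Nat.card T - 1) {R : Subgroup G}
    (hRp : IsPGroup p R) (hR : R ≤ Dz H z) : R ≤ W := by
  intro x hx
  obtain ⟨k, hk⟩ := hRp ⟨x, hx⟩
  have hk' : x ^ p ^ k = 1 := congrArg Subtype.val hk
  obtain ⟨j, -, hj⟩ := (Nat.dvd_prime_pow hp).1 (orderOf_dvd_of_pow_eq_one hk')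
  have hcop : (orderOf x).Coprime (Nat.card T - 1) := by
    rw [hj]
    exact (hp.coprime_iff_not_dvd.2 hne).pow_left j
  obtain ⟨n, hn⟩ := exists_pow_eq_self_of_coprime hcop.symm
  rw [← hn]
  exact pow_mem (B.pow_mem_K (hR hx)).2 n

end Base

end H61.GI
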