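import Cfsg.Agent.H61.GI.RealTwo

/-!
`D ∩ W = 1` in the minimal situation (helper61): the character argument.
-/

set_option autoImplicit false
set_option linter.style.haveILetI false
set_option linter.unusedSectionVars false

open Cfsg
open scoped ComplexConjugate

namespace H61.GI

open Subgroup

universe u

/-- A power of two dividing `α (1 - α)` with small squares. -/
theorem no_sol {c : ℕ} {q a α k : ℤ} (hq : q = 2 ^ c) (hk : Odd k) (h1 : q ∣ a - α)
    (h2 : q ∣ k * (a - α ^ 2)) (hα0 : α ≠ 0) (hα1 : α ≠ 1)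
    (hb : α ^ 2 + (1 - α) ^ 2 ≤ q ^ 2) : False := by
  have hp : Prime (2 : ℤ) := Int.prime_two
  have h3 : q ∣ a - α ^ 2 := by
    rw [hq] at h2 ⊢
    exact hp.pow_dvd_of_dvd_mul_left c (fun h => (Int.not_even_iff_odd.2 hk) (even_iff_two_dvd.2 h)) h2
  have h4 : q ∣ α * (1 - α) := by
    have := dvd_sub h3 h1
    rwa [show a - α ^ 2 - (a - α) = α * (1 - α) by ring] at this
  have hq0 : 0 ≤ q := by rw [hq]; positivity
  have key : ∀ u v : ℤ, u ≠ 0 → v ≠ 0 → q ∣ u → u ^ 2 + v ^ 2 ≤ q ^ 2 → False := by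
    intro u v hu hv hd hle
    have h5 : q ≤ |u| := Int.le_of_dvd (abs_pos.2 hu) ((dvd_abs _ _).2 hd)
    have h6 : q ^ 2 ≤ u ^ 2 := by
      rw [← sq_abs u]
      exact pow_le_pow_left₀ hq0 h5 2
    have h7 : 0 < v ^ 2 := by positivity
    omega
  by_cases h : (2 : ℤ) ∣ α
  · refine key α (1 - α) hα0 (by omega) ?_ hb
    rw [hq] at h4 ⊢
    exact hp.pow_dvd_of_dvd_mul_right c (fun h' => by omega) h4
  · refine key (1 - α) α (by omega) hα0 ?_ (by linarith)
    rw [hq] at h4 ⊢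
    exact hp.pow_dvd_of_dvd_mul_left c h h4

variable {G : Type u} [Group G] [Fintype G] {H W T : Subgroup G} {z : G}

namespace Base

variable (B : Base G H W T z)
include B

theorem exists_decomp {g : G} (hg : g ∉ H) : ∃ a ∈ H, ∃ b ∈ H, g = a * z * b := by
  obtain ⟨k, hk, hc⟩ := B.exists_H_smul (c := g • pa H) fun e => hg ((smul_pa_iff H).1 e)
  refine ⟨k, hk, (k * z)⁻¹ * g, ?_, by group⟩
  rw [← smul_pa_iff, mul_smul, ← hc, mul_inv_rev, mul_smul, inv_smul_smul,
    H70.inv_eq_self_of_two B.z2, B.z_smul_pb]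

omit B in
theorem eq_one_of_core (B : Base G H W T z) {x : G} (h : ∀ g : G, g * x * g⁻¹ ∈ H) : x = 1 :=
  Subgroup.mem_bot.1 (B.core ▸ (show x ∈ H.normalCore from h))

variable (μ : H →* ℂˣ)
  (hμz : ∀ (x : G) (hx : x ∈ Dz H z),
    μ ⟨z * x * z, B.D_le (B.inv_mem_D_conj hx)⟩ = μ ⟨x, B.D_le hx⟩)
  (hodd : ∀ h : H, ∃ n : ℕ, Odd n ∧ μ h ^ n = 1)

include hμz hodd in
/-- A constituent of degree one is impossible. -/
theorem linear_false {k : G} (hk : k ∈ Dz H z ⊓ W) (hμk : μ ⟨k, B.D_le hk.1⟩ ≠ 1)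
    {A : IrrCharacter G} (hA : classInner (indFun H (lin μ)) (A : G → ℂ) = 1)
    (hA1 : (A : G → ℂ) 1 = 1) : False := by
  classical
  haveI : Fintype H := Fintype.ofFinite _
  obtain ⟨f, hf⟩ := H12.exists_monoidHom_of_apply_one_eq_one (H12.isCharacter_irr A) hA1
  have hfH : f.comp H.subtype = μ := by
    refine H12.linIrr_injective (by_contra fun hne => ?_)
    have h := H12.classInner_irr_ne hne
    have e : (H12.linIrr (f.comp H.subtype) : H → ℂ) = fun h : H => (A : G → ℂ) h := by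
      funext h; exact congrFun hf (h : G)
    rw [e, ← H12.conj_classInner,
      show (H12.linIrr μ : H → ℂ) = lin μ from rfl,
      ← H12.classInner_indFun H (lin μ) (H12.irr_isClassFunction A), hA, map_one] at h
    exact one_ne_zero h
  have hfμ : ∀ (x : G) (hx : x ∈ H), f x = μ ⟨x, hx⟩ := fun x hx =>
    congrArg (fun g : H →* ℂˣ => g ⟨x, hx⟩) hfH
  have hfT : ∀ s ∈ T, f s = 1 := fun s hs => by
    rw [hfμ s (B.S.T_le hs), B.mu_T μ hodd hs]
  obtain ⟨t, ht, ht1⟩ := B.exists_t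
  have ht2 := B.S.orderOf_two ht ht1
  have hfz : f z = 1 := by
    obtain ⟨g, hg⟩ := isConj_iff.1 (H67.se_isConj B.S.se ht2 B.z2)
    rw [← hg, map_mul, map_mul, map_inv, hfT t ht, mul_one, mul_inv_cancel]
  have hNtop : f.ker ≠ ⊤ := fun e => hμk (by
    rw [← hfμ k (B.D_le hk.1)]
    exact MonoidHom.mem_ker.1 (e ▸ Subgroup.mem_top k))
  have hloc := B.local_good hNtop (MonoidHom.mem_ker.2 hfz) B.zH (one_mem W) fun s hs => by
    rw [one_mul, inv_one, mul_one]; exact MonoidHom.mem_ker.2 (hfT s hs)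
  have hker : ∀ x ∈ W, f x = 1 → x = 1 := by
    intro x hx hfx
    refine eq_one_of_core B fun g => ?_
    by_cases hg : g ∈ H
    · exact mul_mem (mul_mem hg (B.S.W_le hx)) (inv_mem hg)
    · obtain ⟨a, ha, b, hb, rfl⟩ := B.exists_decomp hg
      have hy : f (b * x * b⁻¹) = 1 := by
        rw [map_mul, map_mul, map_inv, hfx, mul_one, mul_inv_cancel]
      have h := hloc _ (MonoidHom.mem_ker.2 hy) (B.S.W_conj b hb x hx) z (MonoidHom.mem_ker.2 hfz)
      rw [show a * z * b * x * (a * z * b)⁻¹ = a * (z * (b * x * b⁻¹) * z⁻¹) * a⁻¹ by group]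
      exact mul_mem (mul_mem ha h) (inv_mem ha)
  have hab : ∀ x ∈ W, ∀ y ∈ W, x * y = y * x := fun x hx y hy => by
    have h := hker (x * y * x⁻¹ * y⁻¹)
      (mul_mem (mul_mem (mul_mem hx hy) (inv_mem hx)) (inv_mem hy))
      (by rw [map_mul, map_mul, map_mul, map_inv, map_inv, mul_right_comm (f x), mul_inv_cancel,
        one_mul, mul_inv_cancel])
    rwa [mul_inv_eq_one, mul_inv_eq_iff_eq_mul] at h
  have hk1 : k ≠ 1 := fun e => hμk (by
    rw [show (⟨k, B.D_le hk.1⟩ : H) = 1 from Subtype.ext e, map_one])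
  have hkH : k ∈ H := B.S.W_le hk.2
  obtain ⟨hzC, hTC⟩ := B.cent_local hk
  have hlocC := B.local_good (B.centralizer_ne_top hkH hk1) hzC B.zH (one_mem W) fun s hs => by
    rw [one_mul, inv_one, mul_one]; exact hTC s hs
  refine hk1 (eq_one_of_core B fun g => ?_)
  by_cases hg : g ∈ H
  · exact mul_mem (mul_mem hg hkH) (inv_mem hg)
  · obtain ⟨a, ha, b, hb, rfl⟩ := B.exists_decomp hg
    have hw := B.S.W_conj b hb k hk.2
    have h := hlocC _ (Subgroup.mem_centralizer_singleton_iff.2 (hab _ hw k hk.2)) hw z hzC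
    rw [show a * z * b * k * (a * z * b)⁻¹ = a * (z * (b * k * b⁻¹) * z⁻¹) * a⁻¹ by group]
    exact mul_mem (mul_mem ha h) (inv_mem ha)

/-- The sum over `T` of a character constant on `T - 1`. -/
theorem T_congr {t : G} (ht : t ∈ T) (ht1 : t ≠ 1) (A : IrrCharacter G) {a α : ℤ}
    (hA1 : (A : G → ℂ) 1 = (a : ℂ)) (hAt : (A : G → ℂ) t = (α : ℂ)) :
    (Nat.card T : ℤ) ∣ a - α := by
  classical
  haveI : Fintype T := Fintype.ofFinite _
  obtain ⟨m, hm⟩ := H12.IsCharacter.classInner_nat (H12.IsCharacter.res (H12.isCharacter_irr A) T)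
    (H12.isCharacter_irr (H12.oneIrr T))
  have h : ∑ s : T, (A : G → ℂ) (s : G) = (Nat.card T : ℂ) * m := by
    rw [← hm, H12.classInner_def, ← mul_assoc,
      mul_inv_cancel₀ (by exact_mod_cast Nat.card_pos.ne'), one_mul]
    refine Finset.sum_congr rfl fun s _ => ?_
    rw [H12.oneIrr_apply, map_one, mul_one]
  rw [← Finset.add_sum_erase _ _ (Finset.mem_univ (1 : T)),
    Finset.sum_congr rfl (g := fun _ => (α : ℂ)) fun s hs => by
      have hs1 : (s : G) ≠ 1 := fun e => Finset.ne_of_mem_erase hs (Subtype.ext e)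
      obtain ⟨d, -, hd⟩ := B.exists_D_conj (B.S.T_le ht) (B.S.orderOf_two ht ht1)
        (B.S.T_le s.2) (B.S.orderOf_two s.2 hs1)
      rw [← hd, H12.irr_isClassFunction A, hAt],
    Finset.sum_const, Finset.card_erase_of_mem (Finset.mem_univ _), Finset.card_univ,
    ← Nat.card_eq_fintype_card, nsmul_eq_mul, OneMemClass.coe_one, hA1,
    Nat.cast_sub (Nat.one_le_iff_ne_zero.2 Nat.card_pos.ne'), Nat.cast_one] at h
  have h' : a + ((Nat.card T : ℤ) - 1) * α = (Nat.card T : ℤ) * m := by exact_mod_cast h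
  exact ⟨(m : ℤ) - α, by linear_combination h'⟩

/-- The multiplicity of the character of the oracle in a constituent. -/
theorem SzChar_eq {P : Subgroup G} (hTP : T ≤ P) (hPH : P ≤ H) (hP : IsPGroup 2 P)
    (hsz : SzChar P) {t : G} (ht : t ∈ T) (ht1 : t ≠ 1) (A : IrrCharacter G) {a α : ℤ}
    (hA1 : (A : G → ℂ) 1 = (a : ℂ)) (hAt : (A : G → ℂ) t = (α : ℂ))
    (hreal : ∀ x : G, x ∈ P → (A : G → ℂ) x⁻¹ = (A : G → ℂ) x) :
    Nat.card P = Nat.card T ^ 2 ∧
      ∃ m : ℤ, (a - α) ^ 2 = 2 * m ^ 2 * (Nat.card T : ℤ) ^ 3 := by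
  classical
  haveI : Fintype P := Fintype.ofFinite _
  obtain ⟨hcard, hchar⟩ := hsz
  have hsq : ∀ x : P, x * x = 1 ↔ (x : G) ∈ T := by
    intro x
    constructor
    · intro h
      by_cases hx : (x : G) = 1
      · rw [hx]; exact one_mem _
      · exact B.invol_mem_T (hPH x.2) (orderOf_eq_prime (by
          rw [pow_two]; exact congrArg Subtype.val h) hx)
    · exact fun h => Subtype.ext (B.S.T_sq _ h)
  have hTcard : Nat.card {x : P // x * x = 1} = Nat.card T := Nat.card_congr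
    { toFun := fun x => ⟨(x.1 : G), (hsq x.1).1 x.2⟩
      invFun := fun s => ⟨⟨s, hTP s.2⟩, (hsq _).2 s.2⟩
      left_inv := fun _ => rfl
      right_inv := fun _ => rfl }
  rw [hTcard] at hcard
  refine ⟨hcard, ?_⟩
  obtain ⟨χ, e, he, he2, himag, hsum⟩ := hchar
  rw [hTcard] at he2
  obtain ⟨m, hm⟩ := H12.IsCharacter.classInner_nat (H12.IsCharacter.res (H12.isCharacter_irr A) P)
    (H12.isCharacter_irr χ)
  set R := ∑ x : P, (A : G → ℂ) (x : G) * conj ((χ : P → ℂ) x) with hRdef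
  have hR : R = (Nat.card P : ℂ) * m := by
    rw [← hm, H12.classInner_def, ← mul_assoc,
      mul_inv_cancel₀ (by exact_mod_cast Nat.card_pos.ne'), one_mul]
  have hreal' : ∀ x : P, conj ((A : G → ℂ) (x : G)) = (A : G → ℂ) (x : G) := fun x => by
    rw [← H12.irr_inv A, hreal _ x.2]
  have h2 : R + conj R = 2 * ∑ x ∈ Finset.univ.filter (fun x : P => x * x = 1),
      (A : G → ℂ) (x : G) * (χ : P → ℂ) x := by
    rw [hRdef, map_sum, ← Finset.sum_add_distrib, Finset.mul_sum, Finset.sum_filter]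
    refine Finset.sum_congr rfl fun x _ => ?_
    rw [map_mul, hreal' x, Complex.conj_conj]
    split_ifs with hx
    · rw [← H12.irr_inv χ, inv_eq_of_mul_eq_one_right hx]; ring
    · rw [himag x hx]; ring
  have hχ : ∑ x ∈ Finset.univ.filter (fun x : P => x * x = 1), (χ : P → ℂ) x = 0 := by
    rw [← hsum, finsum_mem_eq_toFinset_sum]
    refine Finset.sum_congr ?_ fun _ _ => rfl
    ext x
    simp
  have h1mem : (1 : P) ∈ Finset.univ.filter (fun x : P => x * x = 1) :=
    Finset.mem_filter.2 ⟨Finset.mem_univ _, mul_one 1⟩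
  have h3 : ∑ x ∈ Finset.univ.filter (fun x : P => x * x = 1), (A : G → ℂ) (x : G) * (χ : P → ℂ) x =
      ((a : ℂ) - α) * e := by
    have hsplit : ∀ x ∈ Finset.univ.filter (fun x : P => x * x = 1),
        (A : G → ℂ) (x : G) * (χ : P → ℂ) x =
          (α : ℂ) * (χ : P → ℂ) x + if x = 1 then ((a : ℂ) - α) * e else 0 := by
      intro x hx
      split_ifs with h
      · rw [h, OneMemClass.coe_one, hA1, he]; ring
      · have hxT := (hsq x).1 (Finset.mem_filter.1 hx).2
        have hx1 : (x : G) ≠ 1 := fun h' => h (Subtype.ext h')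
        obtain ⟨d, -, hd⟩ := B.exists_D_conj (B.S.T_le ht) (B.S.orderOf_two ht ht1)
          (B.S.T_le hxT) (B.S.orderOf_two hxT hx1)
        rw [← hd, H12.irr_isClassFunction A, hAt, add_zero]
    rw [Finset.sum_congr rfl hsplit, Finset.sum_add_distrib, ← Finset.mul_sum, hχ, mul_zero,
      zero_add, Finset.sum_ite_eq', if_pos h1mem]
  rw [hR, map_mul, map_natCast, map_natCast, h3, hcard] at h2
  push_cast at h2
  have h4 : ((m : ℤ) * (Nat.card T : ℤ) ^ 2) = (a - α) * (e : ℤ) := by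
    have h5 : ((m : ℂ) * (Nat.card T : ℂ) ^ 2) = ((a : ℂ) - α) * e := by linear_combination h2 / 2
    exact_mod_cast h5
  have he2' : 2 * (e : ℤ) ^ 2 = (Nat.card T : ℤ) := by exact_mod_cast he2
  refine ⟨m, mul_right_cancel₀ (b := (Nat.card T : ℤ))
    (by exact_mod_cast Nat.card_pos.ne') ?_⟩
  calc (a - α) ^ 2 * (Nat.card T : ℤ) = 2 * ((a - α) * (e : ℤ)) ^ 2 := by rw [← he2']; ring
    _ = _ := by rw [← h4]; ring

/-- The kernel of the two-point stabiliser on `T` is trivial. -/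
theorem K_eq_bot : Dz H z ⊓ W = ⊥ := by
  classical
  by_contra hK
  obtain ⟨μ, hμz, hodd, k, hk, hμk⟩ := B.exists_mu hK
  haveI : Fintype H := Fintype.ofFinite _
  haveI : Fintype W := Fintype.ofFinite _
  obtain ⟨t, ht, ht1⟩ := B.exists_t
  have ht2 := B.S.orderOf_two ht ht1
  haveI : Fintype (Subgroup.centralizer ({t} : Set G)) := Fintype.ofFinite _
  set θ := indFun H (lin μ) with hθ
  have hθch : IsCharacter G θ := H12.IsCharacter.indFun
    (H12.isCharacter_of_isIrrCharacter (H12.isIrrCharacter_monoidHom μ))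
  obtain ⟨A₀, A₁, hne, hθA, h0, h1⟩ := exists_two_irr hθch (B.norm_ind μ hμz)
  obtain ⟨α, hα, -⟩ := H20.irr_involution A₀ ht2
  obtain ⟨α', hα', -⟩ := H20.irr_involution A₁ ht2
  obtain ⟨a, ha⟩ : ∃ a : ℕ, (A₀ : G → ℂ) 1 = (a : ℂ) := H12.IsCharacter.apply_one (H12.isCharacter_irr A₀)
  obtain ⟨a', ha'⟩ : ∃ a' : ℕ, (A₁ : G → ℂ) 1 = (a' : ℂ) := H12.IsCharacter.apply_one (H12.isCharacter_irr A₁)
  have ha0 : (a : ℂ) ≠ 0 := ha ▸ H12.irr_apply_one_ne_zero A₀
  have ha'0 : (a' : ℂ) ≠ 0 := ha' ▸ H12.irr_apply_one_ne_zero A₁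
  -- values
  have hθtw : ∀ w : W, (A₀ : G → ℂ) (t * w) + (A₁ : G → ℂ) (t * w) = (B.muW μ w : ℂ) := fun w => by
    rw [← Pi.add_apply (A₀ : G → ℂ), ← hθA, hθ, B.ind_tw μ hμz hodd ht ht1 w.2]
    rfl
  have hsumα : α + α' = 1 := by
    have h := hθtw 1
    rw [OneMemClass.coe_one, mul_one, hα, hα', map_one, Units.val_one] at h
    exact_mod_cast h
  -- the degrees
  obtain ⟨c, hc⟩ := B.exists_relIndex
  obtain ⟨l, hl⟩ : Nat.card ↥(W ⊓ Dz H z) ∣ Nat.card W := Subgroup.card_dvd_of_le inf_le_left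
  have hlodd : Odd l := B.S.W_odd.of_dvd_nat (Dvd.intro_left _ hl.symm)
  have hN : H.index - 1 = l * 2 ^ c := by
    refine Nat.eq_of_mul_eq_mul_left (Nat.card_pos (α := ↥(W ⊓ Dz H z))) ?_
    rw [B.card_K_index, ← H82.card_mul_relIndex B.W_le_Ker, hc, hl, mul_assoc]
  have hθ1 : a + a' = H.index := by
    have h : θ 1 = (H.index : ℂ) := by
      rw [hθ, H12.indFun_one]
      show _ * ((μ 1 : ℂˣ) : ℂ) = _
      rw [map_one, Units.val_one, mul_one]
    rw [hθA, Pi.add_apply, ha, ha'] at h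
    exact_mod_cast h
  -- the permutation character
  have hlin1 : (fun _ : H => (1 : ℂ)) = lin (1 : H →* ℂˣ) := rfl
  have hπch : IsCharacter G (perm H) := H12.IsCharacter.indFun
    (H12.isCharacter_of_isIrrCharacter H12.isIrrCharacter_one)
  have hπ1 : classInner (perm H) (H12.oneIrr G : G → ℂ) = 1 := by
    rw [perm, H12.classInner_indFun H _ (H12.irr_isClassFunction _)]
    exact H12.classInner_irr_self (H12.oneIrr H)
  obtain ⟨ψ, hπψ⟩ : ∃ ψ : IrrCharacter G, perm H = (H12.oneIrr G : G → ℂ) + (ψ : G → ℂ) := by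
    obtain ⟨P₀, P₁, hne, hP, -, -⟩ := exists_two_irr hπch (by
      rw [perm, hlin1]
      exact B.norm_ind 1 fun _ _ => rfl)
    rw [hP, H12.classInner_add_left, H12.classInner_irr, H12.classInner_irr] at hπ1
    by_cases e : P₀ = H12.oneIrr G
    · exact ⟨P₁, e ▸ hP⟩
    · by_cases e' : P₁ = H12.oneIrr G
      · exact ⟨P₀, (e' ▸ hP).trans (add_comm _ _)⟩
      · simp [e, e'] at hπ1
  have hψt : (ψ : G → ℂ) t = 0 := by
    have h := congrFun hπψ t
    have h' := B.perm_tw ht ht1 (one_mem W)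
    rw [mul_one] at h'
    rw [h', Pi.add_apply, H12.oneIrr_apply] at h
    linear_combination -h
  -- the class product identity
  have hid : (α : ℂ) ^ 2 * a' + (α' : ℂ) ^ 2 * a = (a : ℂ) * a' := by
    have hz0 : ∑ x : G, θ (t * (x * t * x⁻¹)) - ∑ x : G, perm H (t * (x * t * x⁻¹)) = 0 := by
      rw [← Finset.sum_sub_distrib]
      refine Finset.sum_eq_zero fun x _ => ?_
      rw [hθ, B.ind_product μ hμz hodd ht2 (H67.invol_conj ht2 x), sub_self]
    simp only [hθA, hπψ, Pi.add_apply, Finset.sum_add_distrib, H12.irr_class_product,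
      H12.oneIrr_apply, hα, hα', ha, ha', hψt, mul_zero, zero_div, add_zero, mul_one,
      Finset.sum_const, Finset.card_univ, nsmul_eq_mul, ← Nat.card_eq_fintype_card] at hz0
    have hG : (Nat.card G : ℂ) ≠ 0 := by exact_mod_cast Nat.card_pos.ne'
    field_simp at hz0
    refine mul_left_cancel₀ hG ?_
    linear_combination hz0
  have hidZ : α ^ 2 * (a' : ℤ) + α' ^ 2 * (a : ℤ) = (a : ℤ) * a' := by exact_mod_cast hid
  by_cases h01 : α = 0 ∨ α = 1
  · rcases h01 with h | h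
    · obtain rfl : α' = 1 := by omega
      rw [h] at hidZ
      have : (a : ℤ) * ((a' : ℤ) - 1) = 0 := by linear_combination -hidZ
      rcases mul_eq_zero.1 this with h' | h'
      · exact ha0 (by exact_mod_cast h')
      · exact B.linear_false μ hμz hodd hk hμk h1 (by
          rw [ha', show a' = 1 by omega, Nat.cast_one])
    · obtain rfl : α' = 0 := by omega
      rw [h] at hidZ
      have : ((a : ℤ) - 1) * (a' : ℤ) = 0 := by linear_combination -hidZ
      rcases mul_eq_zero.1 this with h' | h'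
      · exact B.linear_false μ hμz hodd hk hμk h0 (by
          rw [ha, show a = 1 by omega, Nat.cast_one])
      · exact ha'0 (by exact_mod_cast h')
  push Not at h01
  -- both constituents are multiples of `μ` on `t W`
  have hS : ∀ (X : IrrCharacter G) (x : ℤ), (X : G → ℂ) t = (x : ℂ) →
      ∑ w : W, (X : G → ℂ) (t * w) * conj (B.muW μ w : ℂ) = 0 ∨
        ∀ w : W, (X : G → ℂ) (t * w) = (B.muW μ w : ℂ) * (x : ℂ) := fun X x hx => by
    rw [← hx]
    exact (B.centData ht ht1).dichotomy (B.muW μ) (B.fus μ hμz) X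
  have hSθ : ∑ w : W, (A₀ : G → ℂ) (t * w) * conj (B.muW μ w : ℂ) +
      ∑ w : W, (A₁ : G → ℂ) (t * w) * conj (B.muW μ w : ℂ) = (Nat.card W : ℂ) := by
    rw [← Finset.sum_add_distrib, Finset.sum_congr rfl (g := fun _ : W => (1 : ℂ)) fun w _ => by
      rw [← add_mul, hθtw w, conj_val]]
    simp [Nat.card_eq_fintype_card]
  have hprop : ∀ (X : IrrCharacter G) (x : ℤ),
      (∀ w : W, (X : G → ℂ) (t * w) = (B.muW μ w : ℂ) * (x : ℂ)) →
      ∑ w : W, (X : G → ℂ) (t * w) * conj (B.muW μ w : ℂ) = (Nat.card W : ℂ) * x := by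
    intro X x hX
    rw [Finset.sum_congr rfl (g := fun _ : W => (x : ℂ)) fun w _ => by
      rw [hX w, mul_right_comm, conj_val, one_mul]]
    simp [Nat.card_eq_fintype_card]
  have hW0 : (Nat.card W : ℂ) ≠ 0 := by exact_mod_cast Nat.card_pos.ne'
  obtain ⟨hP0, hP1⟩ : (∀ w : W, (A₀ : G → ℂ) (t * w) = (B.muW μ w : ℂ) * (α : ℂ)) ∧
      ∀ w : W, (A₁ : G → ℂ) (t * w) = (B.muW μ w : ℂ) * (α' : ℂ) := by
    rcases hS A₀ α hα with e0 | e0 <;> rcases hS A₁ α' hα' with e1 | e1
    · exact absurd (by rw [← hSθ, e0, e1, add_zero]) hW0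
    · rw [e0, hprop A₁ α' e1, zero_add] at hSθ
      have : α' = 1 := by exact_mod_cast (mul_eq_left₀ hW0).1 hSθ
      omega
    · rw [e1, hprop A₀ α e0, add_zero] at hSθ
      have : α = 1 := by exact_mod_cast (mul_eq_left₀ hW0).1 hSθ
      omega
    · exact ⟨e0, e1⟩
  have hb := B.bound μ hμz ht ht1 hne hP0 hP1
  -- the quadratic identity
  have hα'' : α' = 1 - α := by omega
  have hidx : (H.index : ℤ) = (l : ℤ) * 2 ^ c + 1 := by
    have h := Nat.pos_of_ne_zero H.index_ne_zero_of_finite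
    have h' : H.index = l * 2 ^ c + 1 := by omega
    exact_mod_cast h'
  have ha'eq : (a' : ℤ) = (l : ℤ) * 2 ^ c + 1 - a := by
    rw [← hidx, ← hθ1, Nat.cast_add]; ring
  have hquad : ((a : ℤ) - α) ^ 2 = (l : ℤ) * 2 ^ c * ((a : ℤ) - α ^ 2) := by
    rw [hα'', ha'eq] at hidZ
    linear_combination hidZ
  obtain ⟨P, hTP, hPH, hP, hPcard, hdata⟩ := B.exists_sylow_data hK
  obtain ⟨j, hj⟩ := B.S.two_pow_card
  have hlodd' : Odd (l : ℤ) := by exact_mod_cast hlodd
  have hqa := B.T_congr ht ht1 A₀ (a := a) (α := α) (by rw [ha, Int.cast_natCast]) hα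
  rw [hα'', hc, Nat.cast_pow, Nat.cast_ofNat] at hb
  rw [hc] at hPcard
  rcases hdata with hd | hd
  · -- `P = T`
    rw [hPcard] at hd
    have hq : (Nat.card T : ℤ) = 2 ^ c := by exact_mod_cast hd.symm
    rw [hq] at hqa
    obtain ⟨r, hr⟩ := hqa
    refine no_sol rfl hlodd' ⟨r, hr⟩ ⟨r ^ 2, ?_⟩ h01.1 h01.2
      (hb.trans (le_self_pow₀ (one_le_pow₀ (by norm_num)) two_ne_zero))
    refine mul_left_cancel₀ (a := (2 : ℤ) ^ c) (by positivity) ?_
    rw [hr] at hquad
    linear_combination -hquad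
  · -- `P` is of Suzuki type
    have hreal : ∀ x : G, x ∈ P → (A₀ : G → ℂ) x⁻¹ = (A₀ : G → ℂ) x := by
      intro x hx
      obtain ⟨i, hi⟩ := hP ⟨x, hx⟩
      refine apply_inv_two μ hodd ?_ hθA ?_ (j := i) (congrArg Subtype.val hi)
      · exact even_iff_two_dvd.2 (ht2 ▸ orderOf_dvd_natCard t)
      · rw [ha, ha', ne_eq, Nat.cast_inj]
        intro e
        have hev : Even H.index := ⟨a, by omega⟩
        have hq4 := B.S.four_le
        have hc1 : 1 ≤ c := by
          by_contra hc0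
          have h1 : Nat.card P = 1 := by rw [hPcard, show c = 0 by omega, pow_zero]
          have := Subgroup.card_dvd_of_le hTP
          rw [h1, Nat.dvd_one] at this
          omega
        have : Even (l * 2 ^ c) := (Nat.even_pow.2 ⟨even_two, by omega⟩).mul_left l
        have hi := Nat.pos_of_ne_zero H.index_ne_zero_of_finite
        rw [← hN] at this
        obtain ⟨u₁, hu₁⟩ := this
        obtain ⟨u₂, hu₂⟩ := hev
        omega
    obtain ⟨hsq, m, hm⟩ := B.SzChar_eq hTP hPH hP hd ht ht1 A₀ (a := a) (α := α)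
      (by rw [ha, Int.cast_natCast]) hα hreal
    rw [hPcard] at hsq
    have hq2 : (2 : ℤ) ^ c = (Nat.card T : ℤ) ^ 2 := by exact_mod_cast hsq
    rw [hq2] at hquad hb
    refine no_sol (c := j) (q := (Nat.card T : ℤ)) (by exact_mod_cast hj) hlodd' hqa
      ⟨2 * m ^ 2, ?_⟩ h01.1 h01.2 hb
    refine mul_left_cancel₀ (a := (Nat.card T : ℤ) ^ 2)
      (pow_ne_zero 2 (by exact_mod_cast Nat.card_pos.ne')) ?_
    linear_combination hm - hquad

end Base

end H61.GI
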