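import Cfsg.Agent.H65.StronglyEmbedded
import Cfsg.Agent.H70.TwoInvol
import Cfsg.Agent.H67.SECount
import Cfsg.Agent.H29.SEB.Main
import Cfsg.Agent.H12.Linear
import Cfsg.Agent.H82.SylowIn

/-!
Strongly embedded subgroups `H = W (P : D)` in which all involutions lie in the cosets of an odd
normal subgroup `W` by an elementary group `T` on whose nontrivial cosets `H` induces a semiregular
group (helper61): the setting, the wanted conclusion and the data needed from Sylow 2-subgroups.
-/

set_option autoImplicit false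
set_option linter.unusedSectionVars false

open scoped ComplexConjugate

namespace H61.GI

open Subgroup

/-- A 2-group with a character as in Suzuki 2-groups: degree squared is half the number of
solutions of `x * x = 1`, the values outside these solutions are purely imaginary and the sum over
them vanishes. -/
def SzChar (P : Type*) [Group P] : Prop :=
  Nat.card P = Nat.card {x : P // x * x = 1} ^ 2 ∧
    ∀ [Fintype P], ∃ χ : Cfsg.IrrCharacter P, ∃ e : ℕ, (χ : P → ℂ) 1 = (e : ℂ) ∧
      2 * e ^ 2 = Nat.card {x : P // x * x = 1} ∧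
      (∀ x : P, x * x ≠ 1 → conj ((χ : P → ℂ) x) = -((χ : P → ℂ) x)) ∧
      ∑ᶠ x ∈ {x : P | x * x = 1}, (χ : P → ℂ) x = 0

universe u

variable {G : Type u} [Group G]

/-- The data needed from a Sylow 2-subgroup `P ⊇ T`. -/
def SzData (P T : Subgroup G) : Prop :=
  Nat.card P = Nat.card T ∨ SzChar P

/-- `h` fixes every coset of `W` by an element of `T`. -/
def Triv (W T : Subgroup G) (h : G) : Prop := ∀ s ∈ T, h * s * h⁻¹ * s ∈ W

/-- The setting. -/
structure Setup (G : Type u) [Group G] (H W T : Subgroup G) : Prop where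
  se : Cfsg.IsStronglyEmbedded H
  W_le : W ≤ H
  W_conj : ∀ h ∈ H, ∀ w ∈ W, h * w * h⁻¹ ∈ W
  W_odd : Odd (Nat.card W)
  T_le : T ≤ H
  T_sq : ∀ s ∈ T, s * s = 1
  four_le : 4 ≤ Nat.card T
  invol : ∀ i ∈ H, orderOf i = 2 → ∃ s ∈ T, i * s ∈ W
  act : ∀ h ∈ H, ∀ t ∈ T, t ≠ 1 → h * t * h⁻¹ * t ∈ W → Triv W T h
  odd_act : ∀ h ∈ H, Odd (orderOf h) → Triv W T h → h ∈ W

/-- The conclusion. -/
def Good (H W : Subgroup G) : Prop := W ≤ H.normalCore

/-- Sylow 2-subgroups of `H ⊓ M` have the data, for subgroups `M` not inside `H`. -/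
def Oracle (H W T : Subgroup G) : Prop :=
  ∀ M : Subgroup G, M ≠ ⊤ → ¬ M ≤ H → ∀ w ∈ W, T.map (MulAut.conj w).toMonoidHom ≤ M →
    ∀ P : Subgroup G, H82.SylowIn 2 P (H ⊓ M) → T.map (MulAut.conj w).toMonoidHom ≤ P →
      SzData P (T.map (MulAut.conj w).toMonoidHom)

end H61.GI
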