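import Cfsg.Agent.H61.GI.Line
import Cfsg.Agent.H12.Induction

/-!
The kernel of `H` on `T` and the action of `D` on `T` (helper61).
-/

set_option autoImplicit false
set_option linter.style.haveILetI false
set_option linter.unusedSectionVars false

namespace H61.GI

open Subgroup

universe u

variable {G : Type u} [Group G] [Finite G] {H W T : Subgroup G} {z : G}

/-- The kernel of `H` on `T`. -/
def Ker (H T : Subgroup G) : Subgroup G := H ⊓ centralizer (T : Set G)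

namespace Base

variable (B : Base G H W T z)
include B

theorem mem_Ker {h : G} : h ∈ Ker H T ↔ h ∈ H ∧ Triv W T h := by
  refine and_congr_right fun hh => ?_
  rw [B.triv_iff hh]
  exact ⟨fun h1 s hs => (h1 s hs).symm, fun h1 s hs => (h1 s hs).symm⟩

omit B in
theorem Ker_le : Ker H T ≤ H := inf_le_left

theorem W_le_Ker : W ≤ Ker H T := fun w hw =>
  ⟨B.S.W_le hw, fun _ hs => B.comm_WT hw hs⟩

theorem T_le_Ker : T ≤ Ker H T := fun _ hs =>
  ⟨B.S.T_le hs, fun _ hr => B.S.comm hr hs⟩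

theorem Ker_conj {h x : G} (hh : h ∈ H) (hx : x ∈ Ker H T) : h * x * h⁻¹ ∈ Ker H T := by
  refine ⟨mul_mem (mul_mem hh hx.1) (H.inv_mem hh), fun s hs => ?_⟩
  have h1 := B.T_conj (inv_mem hh) hs
  rw [inv_inv] at h1
  have h2 := hx.2 _ h1
  calc s * (h * x * h⁻¹) = h * (h⁻¹ * s * h * x) * h⁻¹ := by group
    _ = h * (x * (h⁻¹ * s * h)) * h⁻¹ := by rw [h2]
    _ = h * x * h⁻¹ * s := by group

theorem mem_normalizer_Ker {h : G} (hh : h ∈ H) : h ∈ normalizer (Ker H T : Set G) := by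
  refine H82.mem_normalizer_of_map_le ?_
  rintro _ ⟨x, hx, rfl⟩
  exact B.Ker_conj hh hx

theorem mem_normalizer_W {h : G} (hh : h ∈ H) : h ∈ normalizer (W : Set G) := by
  refine H82.mem_normalizer_of_map_le ?_
  rintro _ ⟨w, hw, rfl⟩
  exact B.S.W_conj h hh w hw

theorem odd_mem_W {h : G} (hh : h ∈ Ker H T) (ho : Odd (orderOf h)) : h ∈ W :=
  B.S.odd_act h hh.1 ho (B.mem_Ker.1 hh).2

theorem Ker_inf_D : Ker H T ⊓ Dz H z = W ⊓ Dz H z :=
  le_antisymm (fun _ hg => ⟨B.odd_mem_W hg.1 (B.odd_of_mem_D hg.2), hg.2⟩)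
    (inf_le_inf_right _ B.W_le_Ker)

/-- `W` has 2-power index in the kernel. -/
theorem exists_relIndex : ∃ c : ℕ, W.relIndex (Ker H T) = 2 ^ c := by
  refine ⟨_, Nat.eq_prime_pow_of_unique_prime_dvd (W.subgroupOf (Ker H T)).index_ne_zero_of_finite fun {q} hq hd => ?_⟩
  by_contra hq2
  haveI := Fact.mk hq
  haveI : (W.subgroupOf (Ker H T)).Normal :=
    ⟨fun w hw g => B.S.W_conj g g.2.1 w hw⟩
  obtain ⟨y, hy⟩ := exists_prime_orderOf_dvd_card' (G := Ker H T ⧸ W.subgroupOf (Ker H T)) q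
    (by rwa [← Subgroup.index_eq_card])
  obtain ⟨g, rfl⟩ := QuotientGroup.mk_surjective y
  obtain ⟨e, r, hr, hcard⟩ := Nat.exists_eq_pow_mul_and_not_dvd (orderOf_pos g).ne' 2 (by decide)
  have hpow : (g ^ 2 ^ e : Ker H T) ∈ W.subgroupOf (Ker H T) := by
    refine Subgroup.mem_subgroupOf.2 (B.odd_mem_W (g ^ 2 ^ e).2 ?_)
    rw [Subgroup.orderOf_coe]
    refine (Nat.odd_iff.2 (Nat.two_dvd_ne_zero.1 hr)).of_dvd_nat (orderOf_dvd_of_pow_eq_one ?_)
    rw [← pow_mul, ← hcard, pow_orderOf_eq_one]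
  have h1 : orderOf ((g : Ker H T) : Ker H T ⧸ W.subgroupOf (Ker H T)) ∣ 2 ^ e := by
    refine orderOf_dvd_of_pow_eq_one ?_
    rw [← QuotientGroup.mk_pow, QuotientGroup.eq_one_iff]
    exact hpow
  rw [hy] at h1
  exact hq2 ((Nat.prime_dvd_prime_iff_eq hq Nat.prime_two).1 (hq.dvd_of_dvd_pow h1))

theorem exists_H_smul {c : G ⧸ H} (hc : c ≠ pa H) : ∃ u ∈ H, u • pb H z = c :=
  B.exists_t_conj_smul hc

/-- The kernel is transitive on the points other than `H`. -/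
theorem exists_Ker_smul (c : G ⧸ H) (hc : c ≠ pa H) : ∃ u ∈ Ker H T, u • pb H z = c := by
  obtain ⟨h, hh, rfl⟩ := B.exists_H_smul hc
  obtain ⟨t, ht, ht1⟩ := B.exists_t
  obtain ⟨d, hd, hdt⟩ := B.exists_D_conj (B.S.T_le ht) (B.S.orderOf_two ht ht1)
    (mul_mem (mul_mem hh (B.S.T_le ht)) (inv_mem hh)) (H67.invol_conj (B.S.orderOf_two ht ht1) h)
  have hdh := mul_mem (inv_mem (B.D_le hd)) hh
  have htr : Triv W T (d⁻¹ * h) := by
    refine B.triv_of_commute hdh (B.S.T_le ht) (B.S.orderOf_two ht ht1) ?_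
    calc d⁻¹ * h * t = d⁻¹ * (h * t * h⁻¹) * h := by group
      _ = d⁻¹ * (d * t * d⁻¹) * h := by rw [hdt]
      _ = t * (d⁻¹ * h) := by group
  refine ⟨d * (d⁻¹ * h) * d⁻¹, B.Ker_conj (B.D_le hd) (B.mem_Ker.2 ⟨hdh, htr⟩), ?_⟩
  rw [mul_inv_cancel_left, mul_smul,
    inv_smul_eq_iff.2 (show d • pb H z = pb H z from hd.2).symm]

/-- The action of `D` on `T`. -/
noncomputable def actT : Dz H z →* MulAut T where
  toFun d :=
    { toFun := fun s => ⟨d * s * (d : G)⁻¹, B.T_conj (B.D_le d.2) s.2⟩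
      invFun := fun s => ⟨(d : G)⁻¹ * s * d, by
        have h := B.T_conj (inv_mem (B.D_le d.2)) s.2
        rwa [inv_inv] at h⟩
      left_inv := fun s => Subtype.ext (by show (d : G)⁻¹ * (d * s * (d : G)⁻¹) * d = s; group)
      right_inv := fun s => Subtype.ext (by show (d : G) * ((d : G)⁻¹ * s * d) * (d : G)⁻¹ = s; group)
      map_mul' := fun s r => Subtype.ext (by
        show (d : G) * ((s : G) * r) * (d : G)⁻¹ = (d * s * (d : G)⁻¹) * (d * r * (d : G)⁻¹)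
        group) }
  map_one' := MulEquiv.ext fun s => Subtype.ext (by
    show ((1 : Dz H z) : G) * s * ((1 : Dz H z) : G)⁻¹ = s
    simp)
  map_mul' a b := MulEquiv.ext fun s => Subtype.ext (by
    show ((a * b : Dz H z) : G) * s * ((a * b : Dz H z) : G)⁻¹ = a * (b * s * (b : G)⁻¹) * (a : G)⁻¹
    simp [mul_assoc])

theorem actT_eq_one {d : Dz H z} : B.actT d = 1 ↔ (d : G) ∈ W := by
  constructor
  · intro h
    refine B.triv_mem_W d.2 ((B.triv_iff (B.D_le d.2)).2 fun r hr => ?_)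
    have h1 : (d : G) * r * (d : G)⁻¹ = r := congrArg (fun f : MulAut T => ((f ⟨r, hr⟩ : T) : G)) h
    exact mul_inv_eq_iff_eq_mul.1 h1
  · intro h
    refine MulEquiv.ext fun s => Subtype.ext ?_
    show (d : G) * s * (d : G)⁻¹ = s
    rw [← B.comm_WT h s.2, mul_inv_cancel_right]

theorem actT_eq_iff {d e : Dz H z} : B.actT d = B.actT e ↔ (d : G)⁻¹ * e ∈ W := by
  rw [show (d : G)⁻¹ * e = ((d⁻¹ * e : Dz H z) : G) from rfl, ← B.actT_eq_one, map_mul, map_inv,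
    inv_mul_eq_one]

/-- Every coset of `D ∩ W` in `D` has an element centralising `D ∩ W` and inverted by `z`. -/
theorem exists_inverted {x : G} (hx : x ∈ Dz H z) :
    ∃ d ∈ Dz H z, z * d * z = d⁻¹ ∧ (∀ k ∈ Dz H z ⊓ W, d * k = k * d) ∧ x⁻¹ * d ∈ W := by
  classical
  set M := Subgroup.centralizer ((Dz H z ⊓ W : Subgroup G) : Set G) with hM
  have hz : z ∈ M := fun k hk => (B.comm_z hk).symm
  have hT : ∀ s ∈ T, s ∈ M := fun s hs k hk => (B.comm_WT hk.2 hs).symm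
  have hS := B.S.restrict (M := M) (fun h => B.zH (h hz)) (one_mem W) fun r hr => by
    rw [one_mul, inv_one, mul_one]; exact hT r hr
  obtain ⟨s, hs, hs1⟩ := B.exists_t
  have ht := B.T_conj (B.D_le hx) hs
  have ht2 : orderOf (x * s * x⁻¹) = 2 := H67.invol_conj (B.S.orderOf_two hs hs1) x
  obtain ⟨d, hd, hzd, hinv, hdst⟩ := H67.exists_inverted_conj hS.se (u := (⟨z, hz⟩ : M))
    (by rw [Subgroup.orderOf_mk]; exact B.z2) (fun h => B.zH h)
    (s := (⟨s, hT s hs⟩ : M)) (t := (⟨x * s * x⁻¹, hT _ ht⟩ : M))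
    (by rw [Subgroup.orderOf_mk]; exact B.S.orderOf_two hs hs1) (B.S.T_le hs)
    (by rw [Subgroup.orderOf_mk]; exact ht2) (B.S.T_le ht)
  have hdD : (d : G) ∈ Dz H z := ⟨(smul_pa_iff H).2 hd, H65.smul_coset_eq_iff.2 hzd⟩
  have hdst' : (d : G) * s * (d : G)⁻¹ = x * s * x⁻¹ := congrArg Subtype.val hdst
  refine ⟨d, hdD, ?_, fun k hk => (d.2 k hk).symm, ?_⟩
  · have h : z * (d : G) * z⁻¹ = (d : G)⁻¹ := congrArg Subtype.val hinv
    rwa [H70.inv_eq_self_of_two B.z2] at h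
  · have hxd := mul_mem (inv_mem hx) hdD
    refine B.triv_mem_W hxd ((B.triv_iff (B.D_le hxd)).2 (B.act_of_fix (B.D_le hxd) hs hs1 ?_))
    rw [show x⁻¹ * d * s * (x⁻¹ * d)⁻¹ = x⁻¹ * (d * s * (d : G)⁻¹) * x by group, hdst']
    group

theorem isCyclic_actT : IsCyclic B.actT.range := by
  classical
  letI : CommGroup T :=
    { (inferInstance : Group T) with mul_comm := fun a b => Subtype.ext (B.S.comm a.2 b.2) }
  haveI : Nontrivial T := by
    obtain ⟨t, ht, ht1⟩ := B.exists_t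
    exact ⟨⟨⟨t, ht⟩, 1, fun e => ht1 (congrArg Subtype.val e)⟩⟩
  haveI : Finite B.actT.range := Finite.of_surjective _ B.actT.rangeRestrict_surjective
  refine H2.isCyclic_of_fpf_comm (M := T) ?_ ?_
  · rintro ⟨_, d, rfl⟩ hf m hm
    by_contra hm1
    refine hf (Subtype.ext (MulEquiv.ext fun r => Subtype.ext ?_))
    show (d : G) * r * (d : G)⁻¹ = r
    rw [B.act_of_fix (B.D_le d.2) m.2 (fun e' => hm1 (Subtype.ext e'))
      (congrArg Subtype.val hm) r r.2, mul_inv_cancel_right]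
  · -- `z` inverts the image
    have hinv : ∀ x : Dz H z, B.actT ⟨z * x * z, B.inv_mem_D_conj x.2⟩ = (B.actT x)⁻¹ := by
      intro x
      obtain ⟨d, hd, hzd, -, hxd⟩ := B.exists_inverted x.2
      have h1 : B.actT x = B.actT ⟨d, hd⟩ := B.actT_eq_iff.2 hxd
      have h2 : B.actT ⟨z * x * z, B.inv_mem_D_conj x.2⟩ =
          B.actT ⟨z * d * z, B.inv_mem_D_conj hd⟩ := by
        rw [B.actT_eq_iff]
        show (z * (x : G) * z)⁻¹ * (z * d * z) ∈ W
        rw [mul_inv_rev, mul_inv_rev, H70.inv_eq_self_of_two B.z2,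
          show z * ((x : G)⁻¹ * z) * (z * d * z) = z * ((x : G)⁻¹ * (z * z) * d) * z by group, B.zz,
          mul_one]
        exact (B.z_K ⟨mul_mem ((Dz H z).inv_mem x.2) hd, hxd⟩).2
      rw [h2, h1, show (⟨z * d * z, B.inv_mem_D_conj hd⟩ : Dz H z) = ⟨d, hd⟩⁻¹ from
        Subtype.ext hzd, map_inv]
    rintro ⟨_, x, rfl⟩ ⟨_, y, rfl⟩
    refine Subtype.ext ?_
    show B.actT x * B.actT y = B.actT y * B.actT x
    have h := hinv (x * y)
    rw [show (⟨z * ((x * y : Dz H z) : G) * z, B.inv_mem_D_conj (x * y).2⟩ : Dz H z) =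
      ⟨z * x * z, B.inv_mem_D_conj x.2⟩ * ⟨z * y * z, B.inv_mem_D_conj y.2⟩ from Subtype.ext (by
        show z * ((x : G) * y) * z = z * x * z * (z * y * z)
        rw [show z * (x : G) * z * (z * y * z) = z * x * (z * z) * y * z by group, B.zz, mul_one]
        group), map_mul, hinv, hinv, ← mul_inv_rev, inv_inj, map_mul] at h
    exact h.symm

/-- A generator of `D` modulo `D ∩ W`. -/
theorem exists_gen :
    ∃ d ∈ Dz H z, z * d * z = d⁻¹ ∧ (∀ k ∈ Dz H z ⊓ W, d * k = k * d) ∧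
      ∀ x ∈ Dz H z, ∃ k ∈ Dz H z ⊓ W, ∃ i : ℤ, x = k * d ^ i := by
  classical
  obtain ⟨⟨_, x₀, rfl⟩, hgen⟩ := B.isCyclic_actT.exists_generator
  obtain ⟨d, hd, hzd, hdK, hxd⟩ := B.exists_inverted x₀.2
  refine ⟨d, hd, hzd, hdK, fun x hx => ?_⟩
  obtain ⟨i, hi⟩ := mem_zpowers_iff.1 (hgen ⟨_, ⟨⟨x, hx⟩, rfl⟩⟩)
  have hi' : B.actT x₀ ^ i = B.actT ⟨x, hx⟩ := congrArg Subtype.val hi
  rw [(B.actT_eq_iff (e := ⟨d, hd⟩)).2 hxd, ← map_zpow, B.actT_eq_iff] at hi'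
  have hk : (d ^ i)⁻¹ * x ∈ W := hi'
  refine ⟨d ^ i * ((d ^ i)⁻¹ * x) * (d ^ i)⁻¹,
    B.K_conj (zpow_mem hd i) ⟨mul_mem ((Dz H z).inv_mem ((Dz H z).zpow_mem hd i)) hx, hk⟩, i, ?_⟩
  group

end Base

end H61.GI
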