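import Cfsg.Agent.H61.GI.Central
import Cfsg.Agent.H82.PRankOne
import Cfsg.Agent.H2.FPFSubgroup
import Cfsg.Agent.H1.CoprimeAction
import Cfsg.Agent.H5.Burnside

/-!
The kernel `D ∩ W` of the two-point stabiliser on `T` (helper61, adapted from helper64).
-/

set_option autoImplicit false
set_option linter.style.haveILetI false
set_option linter.unusedSectionVars false

namespace H61.GI

open Subgroup

universe u

variable {G : Type u} [Group G] [Finite G] {H W T : Subgroup G} {z : G}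

namespace Base

variable (B : Base G H W T z)
include B

theorem comm_WT {w s : G} (hw : w ∈ W) (hs : s ∈ T) : s * w = w * s := by
  by_cases h1 : s = 1
  · rw [h1, one_mul, mul_one]
  · exact B.comm_TW (B.S.T_le hs) (B.S.orderOf_two hs h1) hw

theorem invol_mem_T {i : G} (hiH : i ∈ H) (hi : orderOf i = 2) : i ∈ T := by
  obtain ⟨s, hs, -, w, hw, rfl⟩ := B.S.exists_conj_T hiH hi
  rwa [← B.comm_WT hw hs, mul_inv_cancel_right]

theorem T_conj {h s : G} (hh : h ∈ H) (hs : s ∈ T) : h * s * h⁻¹ ∈ T := by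
  by_cases h1 : s = 1
  · rw [h1, mul_one, mul_inv_cancel]; exact one_mem _
  · exact B.invol_mem_T (mul_mem (mul_mem hh (B.S.T_le hs)) (inv_mem hh))
      (H67.invol_conj (B.S.orderOf_two hs h1) h)

theorem triv_iff {h : G} (hh : h ∈ H) : Triv W T h ↔ ∀ s ∈ T, h * s = s * h := by
  constructor
  · intro H1 s hs
    exact mul_inv_eq_iff_eq_mul.1 (B.S.eq_of_mul_mem (B.T_conj hh hs) hs (H1 s hs))
  · intro H1 s hs
    rw [H1 s hs, mul_inv_cancel_right, B.S.T_sq s hs]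
    exact one_mem _

theorem triv_of_commute {h i : G} (hh : h ∈ H) (hiH : i ∈ H) (hi : orderOf i = 2)
    (hc : h * i = i * h) : Triv W T h := by
  refine B.S.act h hh i (B.invol_mem_T hiH hi) (fun e => ?_) ?_
  · rw [e, orderOf_one] at hi; omega
  · rw [hc, mul_inv_cancel_right, H70.mul_self_of_two hi]
    exact one_mem _

/-- An odd element of `H` commuting with an involution of `H` lies in `W`. -/
theorem mem_W_of_commute {h i : G} (hh : h ∈ H) (ho : Odd (orderOf h)) (hiH : i ∈ H)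
    (hi : orderOf i = 2) (hc : h * i = i * h) : h ∈ W :=
  B.S.odd_act h hh ho (B.triv_of_commute hh hiH hi hc)

theorem act_of_fix {h : G} (hh : h ∈ H) {s : G} (hs : s ∈ T) (hs1 : s ≠ 1)
    (hc : h * s * h⁻¹ = s) : ∀ r ∈ T, h * r = r * h := by
  refine (B.triv_iff hh).1 (B.S.act h hh s hs hs1 ?_)
  rw [hc, B.S.T_sq s hs]
  exact one_mem _

/-- A `p`-subgroup of `D`, `p` dividing `|T| - 1`, induces an abelian group on `T`. -/
theorem comm_act_mem_W {p : ℕ} [Fact p.Prime] (hp : p ∣ Nat.card T - 1) {E : Subgroup G}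
    (hEp : IsPGroup p E) (hE : E ≤ Dz H z) {g h : G} (hg : g ∈ E) (hh : h ∈ E) :
    g * h * g⁻¹ * h⁻¹ ∈ W := by
  classical
  have hp2 : p ≠ 2 := by
    intro h2
    obtain ⟨c, hc⟩ := B.S.two_pow_card
    have h3 := B.S.four_le
    rw [h2] at hp
    rcases c with _ | c
    · rw [pow_zero] at hc; omega
    · rw [pow_succ] at hc; omega
  letI : CommGroup T :=
    { (inferInstance : Group T) with mul_comm := fun a b => Subtype.ext (B.S.comm a.2 b.2) }
  let φ : E →* MulAut T :=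
    { toFun := fun e =>
        { toFun := fun s => ⟨e * s * (e : G)⁻¹, B.T_conj (B.D_le (hE e.2)) s.2⟩
          invFun := fun s => ⟨(e : G)⁻¹ * s * e, by
            have h := B.T_conj (inv_mem (B.D_le (hE e.2))) s.2
            rwa [inv_inv] at h⟩
          left_inv := fun s => Subtype.ext (by show (e : G)⁻¹ * (e * s * (e : G)⁻¹) * e = s; group)
          right_inv := fun s => Subtype.ext (by show (e : G) * ((e : G)⁻¹ * s * e) * (e : G)⁻¹ = s; group)
          map_mul' := fun s r => Subtype.ext (by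
            show (e : G) * ((s : G) * r) * (e : G)⁻¹ = (e * s * (e : G)⁻¹) * (e * r * (e : G)⁻¹)
            group) }
      map_one' := MulEquiv.ext fun s => Subtype.ext (by
        show ((1 : E) : G) * s * ((1 : E) : G)⁻¹ = s
        simp)
      map_mul' := fun a b => MulEquiv.ext fun s => Subtype.ext (by
        show ((a * b : E) : G) * s * ((a * b : E) : G)⁻¹ = a * (b * s * (b : G)⁻¹) * (a : G)⁻¹
        simp [mul_assoc]) }
  haveI : Nontrivial T := by
    obtain ⟨t, ht, ht1⟩ := B.exists_t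
    exact ⟨⟨⟨t, ht⟩, 1, fun e => ht1 (congrArg Subtype.val e)⟩⟩
  haveI : Finite φ.range := Finite.of_surjective _ φ.rangeRestrict_surjective
  have hfpf : ∀ f : φ.range, f ≠ 1 → ∀ m : T, f • m = m → m = 1 := by
    rintro ⟨_, e, rfl⟩ hf m hm
    by_contra hm1
    refine hf (Subtype.ext (MulEquiv.ext fun r => Subtype.ext ?_))
    show (e : G) * r * (e : G)⁻¹ = r
    rw [B.act_of_fix (B.D_le (hE e.2)) m.2 (fun e' => hm1 (Subtype.ext e'))
      (congrArg Subtype.val hm) r r.2, mul_inv_cancel_right]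
  have hRp : IsPGroup p φ.range := hEp.of_surjective φ.rangeRestrict φ.rangeRestrict_surjective
  have hcyc : IsCyclic φ.range := by
    by_contra hnc
    obtain ⟨A, -, hA, hAc⟩ := H82.exists_elemAb_sq hp2 (hRp.to_subgroup ⊤) fun hc =>
      hnc (Subgroup.topEquiv.isCyclic.mp hc)
    haveI := H2.isCyclic_subgroup_prime_sq (M := T) hfpf A hAc
    obtain ⟨u, hu⟩ := IsCyclic.exists_ofOrder_eq_natCard (α := A)
    have h1 := orderOf_dvd_of_pow_eq_one (Subtype.ext (hA.2 u u.2) : u ^ p = 1)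
    rw [hu, hAc, pow_two] at h1
    have := Nat.le_of_dvd (Fact.out : p.Prime).pos h1
    nlinarith [(Fact.out : p.Prime).one_lt]
  letI := IsCyclic.commGroup (α := φ.range)
  have hone : φ ((⟨g, hg⟩ : E) * ⟨h, hh⟩ * (⟨g, hg⟩ : E)⁻¹ * (⟨h, hh⟩ : E)⁻¹) = 1 := by
    have hc : φ.rangeRestrict ⟨g, hg⟩ * φ.rangeRestrict ⟨h, hh⟩ =
        φ.rangeRestrict ⟨h, hh⟩ * φ.rangeRestrict ⟨g, hg⟩ := mul_comm _ _
    have hc' : φ ⟨g, hg⟩ * φ ⟨h, hh⟩ = φ ⟨h, hh⟩ * φ ⟨g, hg⟩ := congrArg Subtype.val hc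
    rw [map_mul, map_mul, map_mul, map_inv, map_inv, hc', mul_inv_cancel_right, mul_inv_cancel]
  have hcE := E.mul_mem (E.mul_mem (E.mul_mem hg hh) (E.inv_mem hg)) (E.inv_mem hh)
  refine B.triv_mem_W (hE hcE) ((B.triv_iff (B.D_le (hE hcE))).2 fun r hr => ?_)
  have hr' : g * h * g⁻¹ * h⁻¹ * r * (g * h * g⁻¹ * h⁻¹)⁻¹ = r :=
    congrArg (fun f : MulAut T => ((f ⟨r, hr⟩ : T) : G)) hone
  exact mul_inv_eq_iff_eq_mul.1 hr'

theorem zz : z * z = 1 := H70.mul_self_of_two B.z2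

theorem z_conj_mem {x i : G} (hx : x ∈ Dz H z) (hi : orderOf i = 2) (hib : i • pb H z = pb H z)
    (hc : x * i = i * x) : z * x * z ∈ W := by
  have hzi : z * i * z⁻¹ ∈ H := by
    rw [← smul_pa_iff, H70.inv_eq_self_of_two B.z2, mul_smul, mul_smul, B.z_smul_pa, hib,
      B.z_smul_pb]
  refine B.mem_W_of_commute (B.D_le (B.inv_mem_D_conj hx)) (B.odd_of_mem_D (B.inv_mem_D_conj hx))
    hzi (H67.invol_conj hi z) ?_
  rw [H70.inv_eq_self_of_two B.z2,
    show z * x * z * (z * i * z) = z * x * (z * z) * i * z by group, B.zz, mul_one,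
    show z * i * z * (z * x * z) = z * i * (z * z) * x * z by group, B.zz, mul_one,
    mul_assoc z x i, mul_assoc z i x, hc]

theorem smul_pb_ne {s : G} (hs : s ∈ T) (h1 : s ≠ 1) :
    s • pb H z ≠ pb H z ∧ s • pb H z ≠ pa H := by
  have hsa : s • pa H = pa H := (smul_pa_iff H).2 (B.S.T_le hs)
  refine ⟨fun e => B.pb_ne (B.fix_unique (B.S.orderOf_two hs h1) e hsa), fun e => ?_⟩
  exact B.pb_ne (MulAction.injective s (e.trans hsa.symm))

theorem fix_T {x s : G} (hxD : x ∈ Dz H z) (hxW : x ∈ W) (hs : s ∈ T) :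
    x • s • pb H z = s • pb H z := by
  rw [← mul_smul, ← B.comm_WT hxW hs, mul_smul, show x • pb H z = pb H z from hxD.2]

/-- Sylow subgroups of `D` inside `W` centralise involutions fixing `z H`. -/
theorem z_conj_sylow {p : ℕ} [Fact p.Prime] {R : Subgroup G} (hR : H82.SylowIn p R (Dz H z))
    (hRW : R ≤ W) {x : G} (hx : x ∈ R) : z * x * z ∈ W := by
  obtain ⟨s, hs, hs1⟩ := B.exists_t
  obtain ⟨-, m, hm, hma, -⟩ := B.exists_local hR hRW (B.smul_pb_ne hs hs1).2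
    (B.smul_pb_ne hs hs1).1 fun y hy => B.fix_T (hR.le hy) (hRW hy) hs
  refine B.z_conj_mem (hR.le hx) (H67.invol_conj (B.S.orderOf_two hs hs1) m) ?_ ?_
  · rw [← hma, mul_smul, mul_smul, inv_smul_smul, (smul_pa_iff H).2 (B.S.T_le hs)]
  · have h1 : m⁻¹ * x * m ∈ R := (Subgroup.mem_normalizer_iff''.1 hm x).1 hx
    have h2 := B.comm_WT (hRW h1) hs
    calc x * (m * s * m⁻¹) = m * (m⁻¹ * x * m * s) * m⁻¹ := by group
      _ = m * (s * (m⁻¹ * x * m)) * m⁻¹ := by rw [h2]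
      _ = m * s * m⁻¹ * x := by group

theorem zpowers_normalizes_D : zpowers z ≤ Subgroup.normalizer (Dz H z : Set G) := by
  rw [zpowers_le, Subgroup.mem_normalizer_iff]
  refine fun x => ⟨fun hx => ?_, fun hx => ?_⟩
  · rw [H70.inv_eq_self_of_two B.z2]; exact B.inv_mem_D_conj hx
  · have h := B.inv_mem_D_conj hx
    rwa [H70.inv_eq_self_of_two B.z2, show z * (z * x * z) * z = (z * z) * x * (z * z) by group,
      B.zz, one_mul, mul_one] at h

/-- The Sylow `e`-subgroup. -/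
theorem e_part {p : ℕ} [Fact p.Prime] (hp : p ∣ Nat.card T - 1) :
    ∃ R : Subgroup G, R ≤ Dz H z ⊓ W ∧ H82.SylowIn p R W ∧ ∀ x ∈ R, z * x * z ∈ W := by
  classical
  have hcop : (Nat.card (zpowers z)).Coprime (Nat.card (Dz H z)) := by
    rw [Nat.card_zpowers, B.z2]; exact Nat.coprime_two_left.2 B.D_odd
  obtain ⟨E₀, hE₀⟩ := H1.exists_invariant_sylow B.zpowers_normalizes_D hcop
    (Or.inl (Group.isSolvable_of_comm fun a b => mul_comm' a b)) p
  have hE := H82.sylowIn_of_sylow E₀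
  set E := (E₀ : Subgroup (Dz H z)).map (Dz H z).subtype with hEdef
  have hzE : ∀ x ∈ E, z * x * z ∈ E := fun x hx => by
    have h := (Subgroup.mem_normalizer_iff.1 (hE₀ (mem_zpowers z)) x).1 hx
    rwa [H70.inv_eq_self_of_two B.z2] at h
  have htop := B.e_sylow_top hp hE
  have hEH : H82.SylowIn p E H := htop.of_le (hE.le.trans B.D_le) le_top
  set R := E ⊓ W with hRdef
  have hR : H82.SylowIn p R W := by
    refine ⟨inf_le_right, hE.isPGroup.to_le inf_le_left, fun hd => ?_⟩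
    obtain ⟨Q, hQ, hle⟩ := H82.exists_sylowIn_ge (M := W) (hE.isPGroup.to_le inf_le_left)
      (inf_le_right : E ⊓ W ≤ W)
    obtain ⟨h, hh, hQE⟩ := hEH.exists_conj_le hQ.isPGroup (hQ.le.trans B.S.W_le)
    have hQle : Q.map (MulAut.conj h).toMonoidHom ≤ E ⊓ W := by
      refine le_inf hQE ?_
      rintro _ ⟨y, hy, rfl⟩
      exact B.S.W_conj h hh y (hQ.le hy)
    have h1 := Subgroup.card_le_of_le hQle
    rw [H82.card_map_conj] at h1
    rw [hRdef, Subgroup.eq_of_le_of_card_ge hle h1] at hd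
    exact hQ.not_dvd hd
  refine ⟨R, inf_le_inf_right W hE.le, hR, fun x hx => ?_⟩
  set R' := R.map (MulAut.conj z).toMonoidHom with hR'def
  have hR'E : R' ≤ E := by
    rintro _ ⟨y, hy, rfl⟩
    show z * y * z⁻¹ ∈ E
    rw [H70.inv_eq_self_of_two B.z2]; exact hzE y hy.1
  have hzx : z * x * z ∈ R' := ⟨x, hx, by
    show z * x * z⁻¹ = _
    rw [H70.inv_eq_self_of_two B.z2]⟩
  suffices hle : R' ≤ R from (hle hzx).2
  by_contra hnle
  have hRn : ∀ g ∈ E, ∀ r ∈ R, g * r * g⁻¹ ∈ R := fun g hg r hr =>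
    ⟨E.mul_mem (E.mul_mem hg hr.1) (E.inv_mem hg), B.S.W_conj g (B.D_le (hE.le hg)) r hr.2⟩
  have hR'n : ∀ g ∈ E, ∀ r ∈ R', g * r * g⁻¹ ∈ R' := by
    rintro g hg _ ⟨r, hr, rfl⟩
    refine ⟨(z * g * z) * r * (z * g * z)⁻¹, hRn _ (hzE g hg) r hr, ?_⟩
    show z * ((z * g * z) * r * (z * g * z)⁻¹) * z⁻¹ = g * (z * r * z⁻¹) * g⁻¹
    rw [show z * ((z * g * z) * r * (z * g * z)⁻¹) * z⁻¹ =
      (z * z) * g * z * r * z⁻¹ * g⁻¹ * (z * z)⁻¹ by group, B.zz]
    group
  by_cases hZ : R ⊓ R' = ⊥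
  · -- `E` is abelian
    have hKab : ∀ g ∈ E, ∀ h ∈ E, g * h * g⁻¹ * h⁻¹ ∈ R := by
      intro g hg h hh
      refine ⟨E.mul_mem (E.mul_mem (E.mul_mem hg hh) (E.inv_mem hg)) (E.inv_mem hh), ?_⟩
      exact B.comm_act_mem_W hp hE.isPGroup hE.le hg hh
    have hEab : ∀ g ∈ E, ∀ h ∈ E, g * h = h * g := by
      intro g hg h hh
      have h1 := hKab g hg h hh
      have h2 : g * h * g⁻¹ * h⁻¹ ∈ R' := by
        refine ⟨(z * g * z) * (z * h * z) * (z * g * z)⁻¹ * (z * h * z)⁻¹,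
          hKab _ (hzE g hg) _ (hzE h hh), ?_⟩
        show z * ((z * g * z) * (z * h * z) * (z * g * z)⁻¹ * (z * h * z)⁻¹) * z⁻¹ = _
        rw [show z * ((z * g * z) * (z * h * z) * (z * g * z)⁻¹ * (z * h * z)⁻¹) * z⁻¹ =
          (z * z) * g * (z * z) * h * g⁻¹ * (z * z)⁻¹ * h⁻¹ * (z * z)⁻¹ by group, B.zz]
        group
      have h3 : g * h * g⁻¹ * h⁻¹ ∈ R ⊓ R' := ⟨h1, h2⟩
      rw [hZ, Subgroup.mem_bot] at h3
      exact mul_inv_eq_iff_eq_mul.1 (mul_inv_eq_one.1 h3)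
    -- an element of `R` outside the symmetric part
    obtain ⟨r, hr, hr'⟩ := SetLike.not_le_iff_exists.1 hnle
    obtain ⟨r₀, hr₀, hr₀'⟩ := hr
    set v := r₀ * (z * r₀ * z) with hv
    have hzr₀ : z * r₀ * z = r := by
      rw [← hr₀']; show z * r₀ * z = z * r₀ * z⁻¹
      rw [H70.inv_eq_self_of_two B.z2]
    have hvE : v ∈ E := mul_mem hr₀.1 (hzE _ hr₀.1)
    have hzv : z * v * z = v := by
      rw [hv, show z * (r₀ * (z * r₀ * z)) * z = z * r₀ * z * r₀ * (z * z) by group, B.zz, mul_one]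
      exact hEab _ (hzE _ hr₀.1) _ hr₀.1
    have hvR : v ∉ R := fun h => hr' (by
      rw [← hzr₀]
      have := mul_mem (inv_mem hr₀) h
      rwa [hv, inv_mul_cancel_left] at this)
    obtain ⟨t, ht, ht1⟩ := B.exists_t
    obtain ⟨g, hg⟩ := isConj_iff.1 (H67.se_isConj B.S.se B.z2 (B.S.orderOf_two ht ht1))
    have hcom : g * v * g⁻¹ * t = t * (g * v * g⁻¹) := by
      rw [← hg]
      have : v * z = z * v := by
        nth_rewrite 1 [← hzv]
        rw [mul_assoc, B.zz, mul_one]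
      rw [show g * v * g⁻¹ * (g * z * g⁻¹) = g * (v * z) * g⁻¹ by group, this]
      group
    have hodd : Odd (orderOf (g * v * g⁻¹)) := by
      rw [show orderOf (g * v * g⁻¹) = orderOf v from
        orderOf_injective (MulAut.conj g).toMonoidHom (MulAut.conj g).injective v]
      exact B.odd_of_mem_D (hE.le hvE)
    have hgvH : g * v * g⁻¹ ∈ H :=
      H67.se_centralizer_mem B.S.se (B.S.orderOf_two ht ht1) (B.S.T_le ht) hcom
    have hgvW := B.mem_W_of_commute hgvH hodd (B.S.T_le ht) (B.S.orderOf_two ht ht1) hcom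
    obtain ⟨w, hw, hwR⟩ := hR.exists_conj_le (Q := (zpowers v).map (MulAut.conj g).toMonoidHom)
      ((hE.isPGroup.to_le (zpowers_le.2 hvE)).map _) (by
        rw [MonoidHom.map_zpowers, zpowers_le]; exact hgvW)
    have hv' : w * g * v * (w * g)⁻¹ ∈ R :=
      hwR ⟨g * v * g⁻¹, ⟨v, mem_zpowers v, rfl⟩, by
        show w * (g * v * g⁻¹) * w⁻¹ = _; group⟩
    obtain ⟨Q₀, hQ₀⟩ := htop.exists_sylow
    obtain ⟨Es, hEs⟩ : ∃ Es : Sylow p G, (Es : Subgroup G) = E := by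
      refine ⟨(hE.isPGroup).toSylow ?_, rfl⟩
      have h := htop.not_dvd
      rwa [Subgroup.relIndex_top_right] at h
    haveI : IsMulCommutative (Es : Subgroup G) :=
      ⟨⟨fun a b => Subtype.ext (hEab _ (hEs ▸ a.2) _ (hEs ▸ b.2))⟩⟩
    have hmemEs : ∀ y, y ∈ E → y ∈ (Es : Subgroup G) := fun y hy => hEs ▸ hy
    obtain ⟨n, hn, hne⟩ := Es.conj_eq_normalizer_conj_of_mem v (w * g)⁻¹ (hmemEs _ hvE) (by
      rw [inv_inv]; exact hmemEs _ hv'.1)
    rw [show ((Es : Set G)) = (E : Set G) by rw [← hEs]; rfl] at hn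
    rw [inv_inv] at hne
    have hnv : n⁻¹ * v * n ∈ W := hne ▸ hv'.2
    have hfix : ∀ w' ∈ ({pa H, pb H z} : Set (G ⧸ H)), n • w' = pa H ∨ n • w' = pb H z := by
      intro w' hw'
      refine B.e_no_third hp hE fun y hy => ?_
      have h1 : n⁻¹ * y * n ∈ E := (Subgroup.mem_normalizer_iff''.1 hn y).1 hy
      have h2 : (n⁻¹ * y * n) • w' = w' := by
        rcases hw' with rfl | rfl
        · exact (hE.le h1).1
        · exact (hE.le h1).2
      conv_rhs => rw [← h2]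
      rw [← mul_smul, ← mul_smul]
      congr 1
      group
    have hne' : n • pa H ≠ n • pb H z := fun e => B.pb_ne (MulAction.injective n e).symm
    have hcase : ∃ m ∈ H, m⁻¹ * v * m = n⁻¹ * v * n := by
      rcases hfix (pa H) (Or.inl rfl) with ha | ha
      · exact ⟨n, (smul_pa_iff H).1 ha, rfl⟩
      · rcases hfix (pb H z) (Or.inr rfl) with hb | hb
        · refine ⟨z * n, (smul_pa_iff H).1 (by rw [mul_smul, ha, B.z_smul_pb]), ?_⟩
          rw [mul_inv_rev, H70.inv_eq_self_of_two B.z2,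
            show n⁻¹ * z * v * (z * n) = n⁻¹ * (z * v * z) * n by group, hzv]
        · exact absurd (ha.trans hb.symm) hne'
    obtain ⟨m, hm, hmv⟩ := hcase
    refine hvR ⟨hvE, ?_⟩
    have h := B.S.W_conj m hm _ (hmv ▸ hnv)
    rwa [show m * (m⁻¹ * v * m) * m⁻¹ = v by group] at h
  · -- induction in the normaliser of `R ∩ R'`
    set M := Subgroup.normalizer ((R ⊓ R' : Subgroup G) : Set G) with hMdef
    have hMtop : M ≠ ⊤ := B.normalizer_ne_top
      ((inf_le_left.trans inf_le_right).trans B.S.W_le) hZ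
    have hzM : z ∈ M := by
      refine H82.mem_normalizer_of_map_le ?_
      rintro _ ⟨y, hy, rfl⟩
      obtain ⟨y₁, hy₁, e₁⟩ := hy.2
      refine ⟨?_, ⟨y, hy.1, rfl⟩⟩
      rw [show (MulAut.conj z).toMonoidHom y = (z * z) * y₁ * (z * z)⁻¹ by
        rw [← e₁]; show z * (z * y₁ * z⁻¹) * z⁻¹ = _; group, B.zz, one_mul, inv_one, mul_one]
      exact hy₁
    have hTM : ∀ s ∈ T, s ∈ M := fun s hs => by
      refine H82.mem_normalizer_of_map_le ?_
      rintro _ ⟨y, hy, rfl⟩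
      show s * y * s⁻¹ ∈ R ⊓ R'
      rwa [B.comm_WT hy.1.2 hs, mul_inv_cancel_right]
    have hRM : R ≤ M := fun r hr => by
      refine H82.mem_normalizer_of_map_le ?_
      rintro _ ⟨y, hy, rfl⟩
      exact ⟨hRn r hr.1 y hy.1, hR'n r hr.1 y hy.2⟩
    have hloc := (B.local_good hMtop hzM B.zH (one_mem W) fun s hs => by
      rw [one_mul, inv_one, mul_one]; exact hTM s hs)
    obtain ⟨t, ht, ht1⟩ := B.exists_t
    have ht2 := B.S.orderOf_two ht ht1
    refine hnle ?_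
    rintro _ ⟨r, hr, rfl⟩
    refine ⟨hR'E ⟨r, hr, rfl⟩, ?_⟩
    show z * r * z⁻¹ ∈ W
    rw [H70.inv_eq_self_of_two B.z2]
    refine B.z_conj_mem (hE.le hr.1) (H67.invol_conj ht2 z) ?_ ?_
    · rw [← B.z_smul_pa, mul_smul, mul_smul, inv_smul_smul, (smul_pa_iff H).2 (B.S.T_le ht)]
    · -- `z r z` commutes with `t`
      have h1 : z * r * z⁻¹ ∈ H := hloc r (hRM hr) hr.2 z hzM
      have h2 : z * r * z⁻¹ * t = t * (z * r * z⁻¹) := by
        set y := z * r * z⁻¹ with hy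
        have hyM : y ∈ M := mul_mem (mul_mem hzM (hRM hr)) (inv_mem hzM)
        have hyo : Odd (orderOf y) := by
          rw [hy, show orderOf (z * r * z⁻¹) = orderOf r from
            orderOf_injective (MulAut.conj z).toMonoidHom (MulAut.conj z).injective r]
          exact B.odd_of_mem_D (hE.le hr.1)
        haveI : Fact (Nat.Prime 2) := ⟨Nat.prime_two⟩
        set N0 := (H.subgroupOf M).normalCore with hN0
        have hrN : (⟨r, hRM hr⟩ : M) ∈ N0 := fun m => hloc r (hRM hr) hr.2 m m.2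
        have hyN : (⟨y, hyM⟩ : M) ∈ N0 :=
          (H.subgroupOf M).normalCore_normal.conj_mem _ hrN ⟨z, hzM⟩
        have hcN : (⟨y, hyM⟩ : M) * ⟨t, hTM t ht⟩ * (⟨y, hyM⟩ : M)⁻¹ * ⟨t, hTM t ht⟩ ∈ N0 := by
          have h3 := mul_mem hyN ((H.subgroupOf M).normalCore_normal.conj_mem _ (inv_mem hyN)
            ⟨t, hTM t ht⟩)
          rwa [← mul_assoc, ← mul_assoc,
            show (⟨t, hTM t ht⟩ : M)⁻¹ = ⟨t, hTM t ht⟩ from
              Subtype.ext (B.S.inv_self ht)] at h3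
        have hsT : y * t * y⁻¹ * t ∈ T := mul_mem (B.T_conj h1 ht) ht
        by_contra hne
        have hsne : y * t * y⁻¹ * t ≠ 1 := fun e => hne (by
          rw [mul_eq_one_iff_eq_inv, B.S.inv_self ht, mul_inv_eq_iff_eq_mul] at e
          exact e)
        have hzt : z * (y * t * y⁻¹ * t) * z⁻¹ ∈ H := hcN ⟨z, hzM⟩
        refine B.zH (inv_mem_iff.1 (H65.se_conj_mem B.S.se (g := z⁻¹)
          (H67.invol_conj (B.S.orderOf_two hsT hsne) z) hzt ?_))
        rw [inv_inv, show z * (z * (y * t * y⁻¹ * t) * z⁻¹) * z⁻¹ =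
          (z * z) * (y * t * y⁻¹ * t) * (z * z)⁻¹ by group, B.zz, one_mul, inv_one, mul_one]
        exact B.S.T_le hsT
      calc r * (z * t * z⁻¹) = z⁻¹ * (z * r * z⁻¹ * t) * z := by
            rw [H70.inv_eq_self_of_two B.z2,
              show z * (z * r * z * t) * z = (z * z) * (r * (z * t * z)) by group, B.zz, one_mul]
        _ = z⁻¹ * (t * (z * r * z⁻¹)) * z := by rw [h2]
        _ = z * t * z⁻¹ * r := by
            rw [H70.inv_eq_self_of_two B.z2,
              show z * (t * (z * r * z)) * z = z * t * z * r * (z * z) by group, B.zz, mul_one]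

/-- `D ∩ W` is `z`-invariant. -/
theorem z_K {x : G} (hx : x ∈ Dz H z ⊓ W) : z * x * z ∈ Dz H z ⊓ W := by
  classical
  refine ⟨B.inv_mem_D_conj hx.1, ?_⟩
  let L : Subgroup G := (Dz H z ⊓ W) ⊓ W.comap (MulAut.conj z).toMonoidHom
  suffices hL : Dz H z ⊓ W ≤ L by
    have h : z * x * z⁻¹ ∈ W := (hL hx).2
    rwa [H70.inv_eq_self_of_two B.z2] at h
  by_contra hnle
  have hrel : L.relIndex (Dz H z ⊓ W) ≠ 1 := fun e => hnle (Subgroup.relIndex_eq_one.1 e)
  obtain ⟨p, hp, hdvd⟩ := Nat.exists_prime_and_dvd hrel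
  haveI := Fact.mk hp
  obtain ⟨R, hR, hRz⟩ : ∃ R : Subgroup G, H82.SylowIn p R (Dz H z ⊓ W) ∧
      ∀ y ∈ R, z * y * z ∈ W := by
    by_cases hpe : p ∣ Nat.card T - 1
    · obtain ⟨R, hRK, hR, hz⟩ := B.e_part hpe
      exact ⟨R, hR.of_le hRK inf_le_right, hz⟩
    · obtain ⟨R, hR⟩ := H82.exists_sylowIn p (Dz H z)
      have hRW := B.le_W_of_ne hp hpe hR.isPGroup hR.le
      exact ⟨R, hR.of_le (le_inf hR.le hRW) inf_le_left, fun y hy => B.z_conj_sylow hR hRW hy⟩
  have hRL : R ≤ L := fun y hy => ⟨hR.le hy, by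
    show z * y * z⁻¹ ∈ W
    rw [H70.inv_eq_self_of_two B.z2]; exact hRz y hy⟩
  refine hR.not_dvd ?_
  rw [← Subgroup.relIndex_mul_relIndex R L _ hRL inf_le_left]
  exact hdvd.trans (dvd_mul_left _ _)

/-- `z` centralises `D ∩ W`. -/
theorem comm_z {x : G} (hx : x ∈ Dz H z ⊓ W) : z * x = x * z := by
  classical
  by_cases hK : Dz H z ⊓ W = ⊥
  · rw [hK, Subgroup.mem_bot] at hx
    rw [hx, mul_one, one_mul]
  set M := Subgroup.normalizer ((Dz H z ⊓ W : Subgroup G) : Set G) with hM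
  have hzM : z ∈ M := by
    refine H82.mem_normalizer_of_map_le ?_
    rintro _ ⟨y, hy, rfl⟩
    show z * y * z⁻¹ ∈ _
    rw [H70.inv_eq_self_of_two B.z2]; exact B.z_K hy
  have hTM : ∀ s ∈ T, s ∈ M := fun s hs => by
    refine H82.mem_normalizer_of_map_le ?_
    rintro _ ⟨y, hy, rfl⟩
    show s * y * s⁻¹ ∈ _
    rwa [B.comm_WT hy.2 hs, mul_inv_cancel_right]
  have hS := B.S.restrict (M := M) (fun h => B.zH (h hzM)) (one_mem W) fun s hs => by
    rw [one_mul, inv_one, mul_one]; exact hTM s hs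
  obtain ⟨t, ht, ht1⟩ := B.exists_t
  obtain ⟨m, hm⟩ := isConj_iff.1 (H67.se_isConj hS.se (a := ⟨t, hTM t ht⟩) (b := ⟨z, hzM⟩)
    (by rw [Subgroup.orderOf_mk]; exact B.S.orderOf_two ht ht1)
    (by rw [Subgroup.orderOf_mk]; exact B.z2))
  have hm' : (m : G) * t * (m : G)⁻¹ = z := congrArg Subtype.val hm
  have hxm : (m : G)⁻¹ * x * m ∈ Dz H z ⊓ W := (Subgroup.mem_normalizer_iff''.1 m.2 x).1 hx
  rw [← hm']
  calc (m : G) * t * (m : G)⁻¹ * x = m * (t * ((m : G)⁻¹ * x * m)) * (m : G)⁻¹ := by group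
    _ = m * (((m : G)⁻¹ * x * m) * t) * (m : G)⁻¹ := by rw [B.comm_WT hxm.2 ht]
    _ = x * (m * t * (m : G)⁻¹) := by group

theorem centralizer_ne_top {x : G} (hxH : x ∈ H) (hx1 : x ≠ 1) :
    Subgroup.centralizer ({x} : Set G) ≠ ⊤ := by
  intro htop
  refine B.normalizer_ne_top (P := zpowers x) (zpowers_le.2 hxH) (by simpa using hx1) ?_
  rw [eq_top_iff]
  intro g _
  refine H82.mem_normalizer_of_map_le ?_
  rw [MonoidHom.map_zpowers, zpowers_le]
  show g * x * g⁻¹ ∈ zpowers x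
  rw [Subgroup.mem_centralizer_singleton_iff.1 (htop ▸ Subgroup.mem_top g :
    g ∈ Subgroup.centralizer ({x} : Set G)), mul_inv_cancel_right]
  exact mem_zpowers x

theorem cent_local {x : G} (hx : x ∈ Dz H z ⊓ W) :
    z ∈ Subgroup.centralizer ({x} : Set G) ∧
      ∀ s ∈ T, s ∈ Subgroup.centralizer ({x} : Set G) :=
  ⟨Subgroup.mem_centralizer_singleton_iff.2 (B.comm_z hx),
    fun s hs => Subgroup.mem_centralizer_singleton_iff.2 (B.comm_WT hx.2 hs)⟩

end Base

end H61.GI
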