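import Cfsg.Agent.H61.GI.Base

/-!
Normalisers of Sylow subgroups of the two-point stabiliser (helper61, adapted from helper64).
-/

set_option autoImplicit false
set_option linter.style.haveILetI false
set_option linter.unusedSectionVars false

namespace H61.GI

open Subgroup

universe u

variable {G : Type u} [Group G] [Finite G] {H W T : Subgroup G} {z : G}

theorem SzChar.congr {P Q : Type*} [Group P] [Group Q] (f : P ≃* Q) (h : SzChar P) : SzChar Q := by
  obtain ⟨h1, h2⟩ := h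
  have hc : Nat.card {x : P // x * x = 1} = Nat.card {x : Q // x * x = 1} :=
    Nat.card_congr (f.toEquiv.subtypeEquiv fun x => by
      show x * x = 1 ↔ f x * f x = 1
      rw [← map_mul, EmbeddingLike.map_eq_one_iff])
  refine ⟨by rw [← Nat.card_congr f.toEquiv, h1, hc], ?_⟩
  intro
  haveI : Fintype P := Fintype.ofEquiv Q f.symm.toEquiv
  obtain ⟨χ, e, he, he2, him, hsum⟩ := h2
  refine ⟨⟨_, H12.IsIrrCharacter.comp_surjective χ.2 (f := f.symm.toMonoidHom) f.symm.surjective⟩, e, ?_, hc ▸ he2,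
    fun x hx => him _ fun e' => hx ?_, ?_⟩
  · show (χ : P → ℂ) (f.symm 1) = _
    rw [map_one, he]
  · have := congrArg f e'
    simpa using this
  · rw [← hsum]
    refine (finsum_mem_eq_of_bijOn f.toEquiv ⟨fun x hx => ?_, f.injective.injOn, fun x hx =>
      ⟨f.symm x, ?_, f.apply_symm_apply x⟩⟩ fun x _ => ?_).symm
    · show f x * f x = 1
      rw [← map_mul, show x * x = 1 from hx, map_one]
    · show f.symm x * f.symm x = 1
      rw [← map_mul, show x * x = 1 from hx, map_one]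
    · show (χ : P → ℂ) x = (χ : P → ℂ) (f.symm (f x))
      rw [f.symm_apply_apply]

/-- The oracle passes to subgroups. -/
theorem Setup.oracle_restrict {M : Subgroup G} (hO : Oracle H W T) {w : G} (hw : w ∈ W) :
    Oracle (H.subgroupOf M) (W.subgroupOf M) ((T.map (MulAut.conj w).toMonoidHom).subgroupOf M) ∨
      ¬ T.map (MulAut.conj w).toMonoidHom ≤ M := by
  by_cases hT : T.map (MulAut.conj w).toMonoidHom ≤ M
  swap
  · exact Or.inr hT
  refine Or.inl fun N hN hNH v hv hvN P hP hvP => ?_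
  set T' := (T.map (MulAut.conj w).toMonoidHom).subgroupOf M with hT'
  set N' := N.map M.subtype
  have hmapc : ∀ K : Subgroup M, (K.map (MulAut.conj v).toMonoidHom).map M.subtype =
      (K.map M.subtype).map (MulAut.conj (v : G)).toMonoidHom := fun K => by
    rw [Subgroup.map_map, Subgroup.map_map]
    rfl
  have hTeq : (T'.map (MulAut.conj v).toMonoidHom).map M.subtype =
      T.map (MulAut.conj ((v : G) * w)).toMonoidHom := by
    rw [hmapc, hT', Subgroup.map_subgroupOf_eq_of_le hT, ← H82.map_conj_mul]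
  have hinf : ((H.subgroupOf M) ⊓ N).map M.subtype = H ⊓ N' := by
    ext x
    constructor
    · rintro ⟨y, hy, rfl⟩
      exact ⟨hy.1, y, hy.2, rfl⟩
    · rintro ⟨hxH, y, hy, rfl⟩
      exact ⟨y, ⟨hxH, hy⟩, rfl⟩
  have hd := hO N' (fun e => hN ?_) (fun h => hNH fun y hy => h ⟨y, hy, rfl⟩) ((v : G) * w)
    (mul_mem hv hw) (hTeq ▸ Subgroup.map_mono hvN) (P.map M.subtype) ⟨hinf ▸ Subgroup.map_mono hP.le,
      hP.isPGroup.map _, by
        rw [← hinf, Subgroup.relIndex_map_map_of_injective _ _ M.subtype_injective]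
        exact hP.not_dvd⟩ (hTeq ▸ Subgroup.map_mono hvP)
  · rcases hd with hd | hd
    · refine Or.inl ?_
      rw [← Subgroup.card_map_of_injective M.subtype_injective, hd, ← hTeq,
        Subgroup.card_map_of_injective M.subtype_injective]
    · exact Or.inr (hd.congr (Subgroup.equivMapOfInjective P M.subtype M.subtype_injective).symm)
  · have hM : M = ⊤ := top_le_iff.1 (e ▸ Subgroup.map_subtype_le N)
    rw [← Subgroup.comap_map_eq_self_of_injective M.subtype_injective N, show N.map M.subtype = N' from rfl,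
      e, Subgroup.comap_top]

namespace Base

variable (B : Base G H W T z)
include B

theorem normalizer_ne_top {P : Subgroup G} (hPH : P ≤ H) (hP : P ≠ ⊥) :
    Subgroup.normalizer (P : Set G) ≠ ⊤ := by
  intro h
  haveI : P.Normal := Subgroup.normalizer_eq_top_iff.1 h
  exact hP (le_bot_iff.1 (B.core ▸ Subgroup.normal_le_normalCore.2 hPH))

/-- Induction inside a proper subgroup containing a `W`-conjugate of `T`. -/
theorem local_good {M : Subgroup G} (hM : M ≠ ⊤) {m₀ : G} (hm₀ : m₀ ∈ M) (hm₀H : m₀ ∉ H) {w : G}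
    (hw : w ∈ W) (hwT : ∀ s ∈ T, w * s * w⁻¹ ∈ M) :
    ∀ x ∈ M, x ∈ W → ∀ m ∈ M, m * x * m⁻¹ ∈ H := by
  have hMH : ¬ M ≤ H := fun h => hm₀H (h hm₀)
  have h := B.ih M hM _ _ _ (B.S.restrict hMH hw hwT) ((Setup.oracle_restrict B.oracle hw).resolve_right
    fun hn => hn (by rintro _ ⟨s, hs, rfl⟩; exact hwT s hs))
  intro x hxM hxW m hm
  exact h (show (⟨x, hxM⟩ : M) ∈ W.subgroupOf M from hxW) ⟨m, hm⟩

/-- Witt: the normaliser of a Sylow subgroup of `D` is transitive on pairs of its fixed points. -/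
theorem witt {p : ℕ} [Fact p.Prime] {P : Subgroup G} (hP : H82.SylowIn p P (Dz H z))
    {c c' : G ⧸ H} (hcc : c ≠ c') (hc : ∀ y ∈ P, y • c = c) (hc' : ∀ y ∈ P, y • c' = c') :
    ∃ g ∈ Subgroup.normalizer (P : Set G), g • pa H = c ∧ g • pb H z = c' := by
  obtain ⟨g, g1, g2⟩ := B.two_trans B.pb_ne.symm hcc
  set Q := P.map (MulAut.conj g⁻¹).toMonoidHom with hQ
  have hQle : Q ≤ Dz H z := by
    rintro _ ⟨y, hy, rfl⟩
    refine ⟨?_, ?_⟩
    · show (g⁻¹ * y * g⁻¹⁻¹) • pa H = pa H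
      rw [inv_inv, mul_smul, mul_smul, g1, hc y hy, ← g1, inv_smul_smul]
    · show (g⁻¹ * y * g⁻¹⁻¹) • pb H z = pb H z
      rw [inv_inv, mul_smul, mul_smul, g2, hc' y hy, ← g2, inv_smul_smul]
  have hQcard : Nat.card Q = Nat.card P := H82.card_map_conj P g⁻¹
  obtain ⟨d, hd, hdQ⟩ := hP.exists_conj_le (hP.isPGroup.map _) hQle
  have heq : Q.map (MulAut.conj d).toMonoidHom = P :=
    Subgroup.eq_of_le_of_card_ge hdQ (by rw [H82.card_map_conj, hQcard])
  refine ⟨g * d⁻¹, ?_, ?_, ?_⟩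
  · have h1 : d * g⁻¹ ∈ Subgroup.normalizer (P : Set G) := by
      rw [H82.mem_normalizer_iff_map, H82.map_conj_mul, ← hQ, heq]
    have h2 := inv_mem h1
    rwa [mul_inv_rev, inv_inv] at h2
  · rw [mul_smul, inv_smul_eq_iff.2 (show d • pa H = pa H from hd.1).symm, g1]
  · rw [mul_smul, inv_smul_eq_iff.2 (show d • pb H z = pb H z from hd.2).symm, g2]

/-- With a third fixed point, an involution of `H` normalises the Sylow subgroup. -/
theorem exists_invol_normalizer {p : ℕ} [Fact p.Prime] {P : Subgroup G}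
    (hP : H82.SylowIn p P (Dz H z)) {c : G ⧸ H} (hca : c ≠ pa H) (hcb : c ≠ pb H z)
    (hc : ∀ y ∈ P, y • c = c) :
    ∃ t ∈ H, orderOf t = 2 ∧ t ∈ Subgroup.normalizer (P : Set G) := by
  classical
  haveI : Fact (Nat.Prime 2) := ⟨Nat.prime_two⟩
  set M := Subgroup.normalizer (P : Set G) with hM
  have hPa : ∀ y ∈ P, y • pa H = pa H := fun y hy => (hP.le hy).1
  have hPb : ∀ y ∈ P, y • pb H z = pb H z := fun y hy => (hP.le hy).2
  have hpres : ∀ g ∈ M, ∀ x : G ⧸ H, (∀ y ∈ P, y • x = x) → ∀ y ∈ P, y • g • x = g • x := by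
    intro g hg x hx y hy
    have h1 : g⁻¹ * y * g ∈ P := (Subgroup.mem_normalizer_iff''.1 hg y).1 hy
    conv_rhs => rw [← hx _ h1]
    rw [← mul_smul, ← mul_smul]
    congr 1
    group
  -- transitivity on the fixed points
  have htrans : ∀ x : G ⧸ H, (∀ y ∈ P, y • x = x) → ∃ g ∈ M, g • pa H = x := by
    intro x hx
    by_cases hxa : x = pa H
    · exact ⟨1, one_mem _, by rw [one_smul, hxa]⟩
    · obtain ⟨g, hg, g1, -⟩ := B.witt hP hxa hx hPa
      exact ⟨g, hg, g1⟩
  by_contra hno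
  push Not at hno
  -- no involution of `M` has its fixed point fixed by `P`
  have hnfix : ∀ i ∈ M, orderOf i = 2 → ∀ x : G ⧸ H, (∀ y ∈ P, y • x = x) → i • x ≠ x := by
    intro i hi hi2 x hx hix
    obtain ⟨g, hg, g1⟩ := htrans x hx
    refine hno (g⁻¹ * i * g) ((smul_pa_iff H).1 ?_) (by simpa using H67.invol_conj hi2 g⁻¹)
      (mul_mem (mul_mem (inv_mem hg) hi) hg)
    rw [mul_smul, mul_smul, g1, hix, ← g1, inv_smul_smul]
  -- no two involutions of `M` commute
  have hnc : ∀ i j : M, orderOf i = 2 → orderOf j = 2 → Commute i j → i = j := by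
    intro i j hi hj hij
    by_contra hne
    have hi' : orderOf (i : G) = 2 := (Subgroup.orderOf_coe i).trans hi
    have hj' : orderOf (j : G) = 2 := (Subgroup.orderOf_coe j).trans hj
    have hne' : (i : G) ≠ j := fun e => hne (Subtype.ext e)
    have hcom : (i : G) * j = j * i := congrArg Subtype.val hij.eq
    have hii := H70.mul_self_of_two hi'
    have hjj := H70.mul_self_of_two hj'
    let A : Subgroup G :=
      { carrier := {x | x = 1 ∨ x = (i : G) ∨ x = (j : G) ∨ x = (i : G) * j}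
        one_mem' := Or.inl rfl
        mul_mem' := by
          have e1 : (j : G) * i = i * j := hcom.symm
          have e2 : (i : G) * ((i : G) * j) = j := by rw [← mul_assoc, hii, one_mul]
          have e3 : (j : G) * ((i : G) * j) = i := by
            rw [← mul_assoc, e1, mul_assoc, hjj, mul_one]
          have e4 : (i : G) * j * i = j := by rw [mul_assoc, e1, e2]
          have e5 : (i : G) * j * j = i := by rw [mul_assoc, hjj, mul_one]
          have e6 : (i : G) * j * ((i : G) * j) = 1 := by rw [← mul_assoc, e4, hjj]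
          rintro a b (rfl | rfl | rfl | rfl) (rfl | rfl | rfl | rfl) <;>
            simp only [Set.mem_ofPred_eq, one_mul, mul_one, hii, hjj, e1, e2, e3, e4, e5, e6,
              true_or, or_true]
        inv_mem' := by
          rintro a (rfl | rfl | rfl | rfl)
          · exact Or.inl inv_one
          · exact Or.inr (Or.inl (inv_eq_of_mul_eq_one_right hii))
          · exact Or.inr (Or.inr (Or.inl (inv_eq_of_mul_eq_one_right hjj)))
          · refine Or.inr (Or.inr (Or.inr ?_))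
            rw [mul_inv_rev, inv_eq_of_mul_eq_one_right hii, inv_eq_of_mul_eq_one_right hjj]
            exact hcom.symm }
    have hAinv : ∀ x ∈ A, x ≠ 1 → orderOf x = 2 := by
      rintro x (rfl | rfl | rfl | rfl) hx1
      · exact absurd rfl hx1
      · exact hi'
      · exact hj'
      · refine orderOf_eq_prime ?_ hx1
        rw [pow_two, ← mul_assoc, mul_assoc (i : G) j i, ← hcom, ← mul_assoc, hii, one_mul, hjj]
    have hAsq : ∀ x ∈ A, x ^ 2 = 1 := fun x hx => by
      by_cases hx1 : x = 1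
      · rw [hx1, one_pow]
      · rw [← hAinv x hx hx1, pow_orderOf_eq_one]
    haveI : IsMulCommutative A := ⟨⟨fun x y => Subtype.ext (show (x : G) * y = y * x by
      have h := hAsq _ (mul_mem x.2 y.2)
      rw [pow_two] at h
      calc (x : G) * y = ((x : G) * y)⁻¹ := (inv_eq_of_mul_eq_one_right h).symm
        _ = y * x := by
          rw [mul_inv_rev, inv_eq_of_mul_eq_one_right (by rw [← pow_two]; exact hAsq _ y.2),
            inv_eq_of_mul_eq_one_right (by rw [← pow_two]; exact hAsq _ x.2)])⟩⟩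
    have hnA : ¬ IsCyclic A := by
      rintro ⟨g, hg⟩
      obtain ⟨k, hk⟩ := hg ⟨i, Or.inr (Or.inl rfl)⟩
      obtain ⟨l, hl⟩ := hg ⟨j, Or.inr (Or.inr (Or.inl rfl))⟩
      have hg2 : ∀ n : ℤ, (g : G) ^ n = 1 ∨ (g : G) ^ n = g := by
        intro n
        have hgsq : (g : G) ^ (2 : ℤ) = 1 := by exact_mod_cast hAsq _ g.2
        rcases Int.even_or_odd n with ⟨m, rfl⟩ | ⟨m, rfl⟩
        · exact Or.inl (by rw [← two_mul, zpow_mul, hgsq, one_zpow])
        · exact Or.inr (by rw [zpow_add, zpow_mul, hgsq, one_zpow, one_mul, zpow_one])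
      have hk' : (g : G) ^ k = i := congrArg Subtype.val hk
      have hl' : (g : G) ^ l = j := congrArg Subtype.val hl
      have hi1 : (i : G) ≠ 1 := fun e => by rw [e, orderOf_one] at hi'; omega
      have hj1 : (j : G) ≠ 1 := fun e => by rw [e, orderOf_one] at hj'; omega
      refine hne' ?_
      rw [← hk', ← hl', (hg2 k).resolve_left (fun e => hi1 (hk' ▸ e)),
        (hg2 l).resolve_left (fun e => hj1 (hl' ▸ e))]
    have hpt : ∀ x ∈ A, x ≠ 1 → x • H29SEB.fixPt H (i : G) = H29SEB.fixPt H (i : G) := by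
      intro x hx hx1
      have hcx : Commute x (i : G) := congrArg Subtype.val
        (mul_comm' (⟨x, hx⟩ : A) ⟨(i : G), Or.inr (Or.inl rfl)⟩)
      exact B.fix_of_commute hi' hcx
    refine hnfix i i.2 hi' (H29SEB.fixPt H (i : G)) ?_ (B.ctx.fix _ hi')
    intro y hy
    have hle : P ≤ MulAction.stabilizer G (H29SEB.fixPt H (i : G)) := by
      refine H79.le_of_centralizers_le (p := 2) (A := A) hAsq hnA ?_ ?_ ?_
      · rintro x (rfl | rfl | rfl | rfl)
        exacts [one_mem _, i.2, j.2, mul_mem i.2 j.2]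
      · exact (Nat.coprime_two_left.2 (B.D_odd.of_dvd_nat (card_dvd_of_le hP.le))).symm
      · rintro x hx hx1 w ⟨-, hw⟩
        have hx2 := hAinv x hx hx1
        rw [← B.fix_unique hx2 (B.ctx.fix x hx2) (hpt x hx hx1)]
        exact B.fix_of_commute hx2 (Subgroup.mem_centralizer_singleton_iff.1 hw)
    exact hle hy
  -- a swapper
  obtain ⟨x, hx, hxa, hxb⟩ := B.witt hP B.pb_ne hPb hPa
  have hxeven : Even (orderOf x) := by
    by_contra hodd
    obtain ⟨k, hk⟩ := Nat.not_even_iff_odd.1 hodd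
    have hx2 : (x * x) • pa H = pa H := by rw [mul_smul, hxa, hxb]
    have h1 : (x * x) ^ (k + 1) = x := by
      rw [← pow_two, ← pow_mul, show 2 * (k + 1) = orderOf x + 1 by omega, pow_succ,
        pow_orderOf_eq_one, one_mul]
    have h2 : (x * x) ^ (k + 1) ∈ MulAction.stabilizer G (pa H) := pow_mem hx2 _
    rw [h1] at h2
    exact B.pb_ne (hxa.symm.trans h2)
  obtain ⟨i, hiM, hi⟩ : ∃ i ∈ M, orderOf i = 2 := by
    obtain ⟨k, hk⟩ := hxeven
    have hk0 : k ≠ 0 := fun h0 => (orderOf_pos x).ne' (by omega)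
    refine ⟨x ^ k, pow_mem hx k, ?_⟩
    rw [orderOf_pow' x hk0, hk, ← two_mul, Nat.gcd_mul_left_left,
      Nat.mul_div_cancel _ (Nat.pos_of_ne_zero hk0)]
  have hiM2 : orderOf (⟨i, hiM⟩ : M) = 2 := by rw [Subgroup.orderOf_mk]; exact hi
  have hiso : Cfsg.IsIsolatedInvolution (⟨i, hiM⟩ : M) :=
    ⟨hiM2, fun g hg => (hnc _ _ hiM2 (H67.invol_conj hiM2 g) hg).symm⟩
  set O := Cfsg.pPrimeCore 2 M with hO
  haveI : O.Normal := H1.pPrimeCore_normal' 2 M
  have hOodd : Odd (Nat.card O) := Nat.coprime_two_right.mp (H1.card_pPrimeCore_coprime 2 M)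
  -- the odd core fixes every fixed point of `P`
  have hOa : ∀ o : M, o ∈ O → (o : G) • pa H = pa H := by
    intro o ho
    by_contra hmove
    set x₀ := i • pa H with hx₀
    -- `o` moves `pa`; compare with the orbit of `i`
    obtain ⟨g, hg, g1, g2⟩ := B.witt hP (c := pa H) (c' := (o : G) • pa H)
      (fun e => hmove e.symm) hPa (hpres o o.2 _ hPa)
    obtain ⟨g', hg', g'1, g'2⟩ := B.witt hP (c := pa H) (c' := x₀)
      (fun e => hnfix i hiM hi _ hPa e.symm) hPa (hpres i hiM _ hPa)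
    have hgg : (g' * g⁻¹) • pa H = pa H := by
      rw [mul_smul, inv_smul_eq_iff.2 g1.symm, g'1]
    have hgg2 : (g' * g⁻¹) • (o : G) • pa H = x₀ := by
      rw [mul_smul, inv_smul_eq_iff.2 g2.symm, g'2]
    set o' : M := ⟨g' * g⁻¹, mul_mem hg' (inv_mem hg)⟩ * o * ⟨g' * g⁻¹, mul_mem hg' (inv_mem hg)⟩⁻¹
      with ho'
    have ho'O : o' ∈ O := Subgroup.Normal.conj_mem inferInstance o ho _
    have ho'a : (o' : G) • pa H = x₀ := by
      rw [ho', Subgroup.coe_mul, Subgroup.coe_mul, Subgroup.coe_inv, mul_smul, mul_smul,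
        inv_smul_eq_iff.2 hgg.symm, hgg2]
    set q : M := o'⁻¹ * ⟨i, hiM⟩ with hq
    have hqH : (q : G) ∈ H := by
      rw [← smul_pa_iff, hq, Subgroup.coe_mul, Subgroup.coe_inv, mul_smul, inv_smul_eq_iff, ho'a]
    have hqodd : Odd (orderOf (q : G)) := by
      by_contra he
      obtain ⟨k, hk⟩ := Nat.not_odd_iff_even.1 he
      have hk0 : k ≠ 0 := fun h0 => (orderOf_pos (q : G)).ne' (by omega)
      refine hno ((q : G) ^ k) (pow_mem hqH k) ?_ (pow_mem q.2 k)
      rw [orderOf_pow' _ hk0, hk, ← two_mul, Nat.gcd_mul_left_left,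
        Nat.mul_div_cancel _ (Nat.pos_of_ne_zero hk0)]
    have h1 : orderOf (QuotientGroup.mk' O ⟨i, hiM⟩) ∣ orderOf q := by
      have h2 : QuotientGroup.mk' O q = QuotientGroup.mk' O ⟨i, hiM⟩ := by
        rw [hq, map_mul, map_inv, show QuotientGroup.mk' O o' = 1 from
          (QuotientGroup.eq_one_iff o').2 ho'O, inv_one, one_mul]
      rw [← h2]; exact orderOf_map_dvd _ _
    have h3 : orderOf (QuotientGroup.mk' O ⟨i, hiM⟩) ∣ 2 := hiM2 ▸ orderOf_map_dvd _ _
    have h4 : (⟨i, hiM⟩ : M) ∈ O := (QuotientGroup.eq_one_iff _).1 (orderOf_eq_one_iff.1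
      (Nat.eq_one_of_dvd_coprimes (Nat.coprime_two_left.2
        ((Subgroup.orderOf_coe q) ▸ hqodd)) h3 h1))
    have := hOodd.of_dvd_nat (Subgroup.orderOf_dvd_natCard _ h4)
    rw [hiM2] at this
    exact absurd this (by decide)
  have hOall : ∀ o : M, o ∈ O → ∀ x : G ⧸ H, (∀ y ∈ P, y • x = x) → (o : G) • x = x := by
    intro o ho x hx
    obtain ⟨g, hg, g1⟩ := htrans x hx
    have h := hOa (⟨g, hg⟩⁻¹ * o * ⟨g, hg⟩)
      (by simpa using Subgroup.Normal.conj_mem inferInstance o ho (⟨g, hg⟩ : M)⁻¹)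
    rw [Subgroup.coe_mul, Subgroup.coe_mul, Subgroup.coe_inv, mul_smul, mul_smul, inv_smul_eq_iff,
      g1] at h
    exact h
  -- a third point
  set x₀ := i • pa H with hx₀
  have hx₀a : x₀ ≠ pa H := hnfix i hiM hi _ hPa
  obtain ⟨y, hy, hya, hyx⟩ : ∃ y : G ⧸ H, (∀ w ∈ P, w • y = y) ∧ y ≠ pa H ∧ y ≠ x₀ := by
    by_cases h : c = x₀
    · exact ⟨pb H z, hPb, B.pb_ne, fun e => hcb (h.trans e.symm)⟩
    · exact ⟨c, hc, hca, h⟩
  obtain ⟨g₁, hg₁, g₁1, g₁2⟩ := B.witt hP hx₀a.symm hPa (hpres i hiM _ hPa)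
  obtain ⟨g₂, hg₂, g₂1, g₂2⟩ := B.witt hP hya.symm hPa hy
  set g : M := ⟨g₂ * g₁⁻¹, mul_mem hg₂ (inv_mem hg₁)⟩ with hgdef
  have hga : (g : G) • pa H = pa H := by
    show (g₂ * g₁⁻¹) • pa H = pa H
    rw [mul_smul, inv_smul_eq_iff.2 g₁1.symm, g₂1]
  have hgx : (g : G) • x₀ = y := by
    show (g₂ * g₁⁻¹) • x₀ = y
    rw [mul_smul, inv_smul_eq_iff.2 g₁2.symm, g₂2]
  have h := hOall _ (H85.zStar hiso g) (pa H) hPa
  rw [Subgroup.coe_mul, Subgroup.coe_mul, Subgroup.coe_mul, Subgroup.coe_inv, Subgroup.coe_inv,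
    mul_smul, mul_smul, mul_smul, inv_smul_eq_iff.2 hga.symm,
    show ((⟨i, hiM⟩ : M) : G) = i from rfl, inv_eq_of_mul_eq_one_right (H70.mul_self_of_two hi),
    ← hx₀, hgx] at h
  refine hyx ?_
  rw [hx₀]
  conv_rhs => rw [← h]
  rw [← mul_smul, H70.mul_self_of_two hi, one_smul]

end Base

end H61.GI
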