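import Cfsg.Agent.H3.GI.Reduce
import Cfsg.Agent.H18.GI.Zero
import Cfsg.Agent.H61.GI.Contra

/-!
Strongly embedded subgroups with involutions in `W T`: the main theorem (helper61).
-/

set_option autoImplicit false
set_option linter.style.haveILetI false
set_option linter.unusedSectionVars false

namespace H61.GI

universe u

/-- The odd subgroup `W` lies in the core of `H`. -/
theorem good {G : Type u} [Group G] [Finite G] {H W T : Subgroup G} (S : Setup G H W T)
    (O : Oracle H W T) : Good H W := by
  refine good_of_base (fun {G} _ _ {H W T z} B => ?_) S O
  haveI : Fintype G := Fintype.ofFinite G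
  exact B.good_of_K_bot B.K_eq_bot

end H61.GI
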