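import Cfsg.Agent.H61.GI.Kernel
import Cfsg.Agent.H16.OddOrder
import Mathlib.GroupTheory.Transfer

/-!
A linear character of `H` that is nontrivial on `D ∩ W`, of odd order and invariant under the
swapper (helper61, adapted from helper64).
-/

set_option autoImplicit false
set_option linter.style.haveILetI false
set_option linter.unusedSectionVars false

namespace H61.GI

open Subgroup
open scoped commutatorElement

universe u

variable {G : Type u} [Group G] [Finite G] {H W T : Subgroup G} {z : G}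

theorem eq_one_of_sq_of_odd {x : ℂˣ} {n : ℕ} (hn : Odd n) (h2 : x * x = 1) (h : x ^ n = 1) :
    x = 1 := by
  obtain ⟨k, hk⟩ := hn
  rw [hk, pow_succ, pow_mul, pow_two, h2, one_pow, one_mul] at h
  exact h

theorem eq_one_of_coprime_pow {M : Type*} [Monoid M] {x : M} {a b : ℕ} (hab : a.Coprime b)
    (ha : x ^ a = 1) (hb : x ^ b = 1) : x = 1 :=
  orderOf_eq_one_iff.1 (Nat.eq_one_of_dvd_coprimes hab (orderOf_dvd_of_pow_eq_one ha)
    (orderOf_dvd_of_pow_eq_one hb))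

namespace Base

variable (B : Base G H W T z)
include B

/-- A character of `D` nontrivial on `D ∩ W`. -/
theorem exists_phi (hK : Dz H z ⊓ W ≠ ⊥) :
    ∃ (φ : (Dz H z).subgroupOf H →* ℂˣ) (k : G) (hk : k ∈ Dz H z ⊓ W),
      φ ⟨⟨k, B.D_le hk.1⟩, hk.1⟩ ≠ 1 := by
  classical
  set D := Dz H z with hDdef
  set K := D ⊓ W with hKdef
  haveI : Group.IsSolvable W := H16.FT.oddOrder B.S.W_odd
  haveI : Group.IsSolvable K :=
    Group.isSolvable_of_isSolvable_injective (Subgroup.inclusion_injective (inf_le_right : K ≤ W))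
  haveI : Nontrivial K := (Subgroup.nontrivial_iff_ne_bot K).2 hK
  obtain ⟨k, -, hk'⟩ := SetLike.exists_of_lt (IsSolvable.commutator_lt_top_of_nontrivial K)
  obtain ⟨d, hd, -, hdK, hdec⟩ := B.exists_gen
  let D' := (Dz H z).subgroupOf H
  let incl : K →* D' :=
    { toFun := fun x => ⟨⟨x, B.D_le x.2.1⟩, x.2.1⟩
      map_one' := rfl
      map_mul' := fun _ _ => rfl }
  have hcomm : commutator D' ≤ (commutator K).map incl := by
    rw [commutator_def, Subgroup.commutator_le]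
    rintro ⟨⟨a, haH⟩, ha⟩ - ⟨⟨b, hbH⟩, hb⟩ -
    obtain ⟨ka, hka, i, hai⟩ := hdec a (show a ∈ Dz H z from ha)
    obtain ⟨kb, hkb, j, hbj⟩ := hdec b (show b ∈ Dz H z from hb)
    refine ⟨⁅(⟨ka, hka⟩ : K), ⟨kb, hkb⟩⁆, Subgroup.commutator_mem_commutator (mem_top _) (mem_top _),
      Subtype.ext (Subtype.ext ?_)⟩
    show ka * kb * ka⁻¹ * kb⁻¹ = a * b * a⁻¹ * b⁻¹
    have hc : ∀ y ∈ K, ∀ m : ℤ, Commute (d ^ m) y := fun y hy m =>
      (show Commute d y from hdK y hy).zpow_left m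
    rw [hai, hbj]
    calc ka * kb * ka⁻¹ * kb⁻¹
        = ka * kb * (d ^ i * d ^ j) * ((d ^ i)⁻¹ * (d ^ j)⁻¹) * ka⁻¹ * kb⁻¹ := by
          rw [show d ^ i * d ^ j = d ^ j * d ^ i from (zpow_mul_comm d i j)]
          group
      _ = ka * kb * d ^ i * (d ^ j * (d ^ i)⁻¹) * ((d ^ j)⁻¹ * ka⁻¹) * kb⁻¹ := by group
      _ = ka * (kb * d ^ i) * (d ^ j * (d ^ i)⁻¹) * (ka⁻¹ * (d ^ j)⁻¹) * kb⁻¹ := by
          rw [((hc ka hka j).inv_left.inv_right).eq]; group
      _ = ka * (d ^ i * kb) * (d ^ j * ((d ^ i)⁻¹ * ka⁻¹)) * ((d ^ j)⁻¹ * kb⁻¹) := by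
          rw [(hc kb hkb i).eq]; group
      _ = ka * d ^ i * (kb * d ^ j) * (ka * d ^ i)⁻¹ * (kb * d ^ j)⁻¹ := by
          rw [mul_inv_rev ka, mul_inv_rev kb]; group
  have hne : Abelianization.of (incl k) ≠ 1 := by
    intro h
    rw [Abelianization.of, MonoidHom.coe_mk, OneHom.coe_mk] at h
    obtain ⟨k', hk'', he⟩ := hcomm ((QuotientGroup.eq_one_iff _).1 h)
    refine hk' ?_
    have : k' = k := Subtype.ext (congrArg (fun y : D' => ((y : H) : G)) he)
    exact this ▸ hk''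
  obtain ⟨φ, hφ⟩ := CommGroup.exists_apply_ne_one_of_hasEnoughRootsOfUnity (Abelianization D') ℂ hne
  exact ⟨φ.comp Abelianization.of, k, k.2, hφ⟩

/-- Elements of `D ∩ W` conjugate in `H` are conjugate in `D`. -/
theorem exists_D_fusion {x h : G} (hx : x ∈ Dz H z ⊓ W) (hh : h ∈ H) (hd : h⁻¹ * x * h ∈ Dz H z) :
    ∃ d ∈ Dz H z, d⁻¹ * x * d = h⁻¹ * x * h := by
  classical
  have hx' : h⁻¹ * x * h ∈ Dz H z ⊓ W := ⟨hd, B.S.W_conj' hh hx.2⟩
  set M := Subgroup.centralizer ({x} : Set G) with hM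
  have hzM : z ∈ M := Subgroup.mem_centralizer_singleton_iff.2 (B.comm_z hx)
  have hTM : ∀ r ∈ T, r ∈ M := fun r hr =>
    Subgroup.mem_centralizer_singleton_iff.2 (B.comm_WT hx.2 hr)
  obtain ⟨z', hz'⟩ : ∃ z', z' = h * z * h⁻¹ := ⟨_, rfl⟩
  have hz'M : z' ∈ M := Subgroup.mem_centralizer_singleton_iff.2 (by
    have h1 : z * (h⁻¹ * x * h) = h⁻¹ * x * h * z := B.comm_z hx'
    calc z' * x = h * (z * (h⁻¹ * x * h)) * h⁻¹ := by rw [hz']; group
      _ = h * (h⁻¹ * x * h * z) * h⁻¹ := by rw [h1]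
      _ = x * z' := by rw [hz']; group)
  have hz'H : z' ∉ H := fun h1 => B.zH (by
    have h2 := mul_mem (mul_mem (inv_mem hh) h1) hh
    rwa [hz', show h⁻¹ * (h * z * h⁻¹) * h = z by group] at h2)
  have hS := B.S.restrict (M := M) (fun h1 => B.zH (h1 hzM)) (one_mem W) fun r hr => by
    rw [one_mul, inv_one, mul_one]; exact hTM r hr
  obtain ⟨s, hs, t, ht, hs1, ht1, hst⟩ := B.exists_two_t
  obtain ⟨y, hy, hmem⟩ := H29SEB.transitive_off hS.se
    (t₀ := (⟨s, hTM s hs⟩ : M)) (t₁ := (⟨t, hTM t ht⟩ : M))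
    (by rw [Subgroup.orderOf_mk]; exact B.S.orderOf_two hs hs1)
    (by rw [Subgroup.orderOf_mk]; exact B.S.orderOf_two ht ht1)
    (fun e => hst (congrArg Subtype.val e)) (Subtype.ext (B.S.comm hs ht))
    (g₁ := ⟨z, hzM⟩) (g₂ := ⟨z', hz'M⟩) (fun h1 => B.zH h1) (fun h1 => hz'H h1)
  have hyH : (y : G) ∈ H := hy
  have hpt : (y : G) • pb H z = h • pb H z := by
    rw [← B.z_smul_pa, ← mul_smul, smul_pa,
      ← (QuotientGroup.eq.2 (show z'⁻¹ * ((y : G) * z) ∈ H from hmem)), ← smul_pa, hz', mul_smul,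
      mul_smul, (smul_pa_iff H).2 (inv_mem hh)]
  refine ⟨(y : G)⁻¹ * h, ⟨(smul_pa_iff H).2 (mul_mem (inv_mem hyH) hh), ?_⟩, ?_⟩
  · show ((y : G)⁻¹ * h) • pb H z = pb H z
    rw [mul_smul, ← hpt, inv_smul_smul]
  · have hyx : x * y = y * x := (Subgroup.mem_centralizer_singleton_iff.1 y.2).symm
    calc ((y : G)⁻¹ * h)⁻¹ * x * ((y : G)⁻¹ * h) = h⁻¹ * (y * (x * (y : G)⁻¹)) * h := by group
      _ = h⁻¹ * x * h := by rw [← mul_assoc (y : G), ← hyx, mul_inv_cancel_right]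

theorem card_D_mul_index : Nat.card (Dz H z) * (H.index - 1) = Nat.card H := by
  classical
  haveI : Fintype (G ⧸ H) := Fintype.ofFinite _
  have horb : MulAction.orbit H (pb H z) = {pa H}ᶜ := by
    ext c
    constructor
    · rintro ⟨u, rfl⟩ he
      exact B.pb_ne (MulAction.injective (u : G)
        ((Set.mem_singleton_iff.1 he).trans ((smul_pa_iff H).2 u.2).symm))
    · intro hc
      obtain ⟨u, hu, hc⟩ := B.exists_H_smul hc
      exact ⟨⟨u, hu⟩, hc⟩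
  have h1 := Nat.card_congr (MulAction.orbitProdStabilizerEquivGroup H (pb H z))
  rw [Nat.card_prod] at h1
  have h2 : Nat.card (MulAction.orbit H (pb H z)) = H.index - 1 := by
    rw [horb, Nat.card_coe_set_eq, Set.ncard_compl, Set.ncard_singleton, Subgroup.index_eq_card]
  have h3 : Nat.card (MulAction.stabilizer H (pb H z)) = Nat.card (Dz H z) :=
    Nat.card_congr
      { toFun := fun u => ⟨u.1, (smul_pa_iff H).2 u.1.2, u.2⟩
        invFun := fun v => ⟨⟨v, B.D_le v.2⟩, v.2.2⟩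
        left_inv := fun u => rfl
        right_inv := fun v => rfl }
  rw [← h1, h2, h3, Nat.mul_comm]

theorem card_K_coprime : (Nat.card ↥(Dz H z ⊓ W)).Coprime (H.index - 1) := by
  obtain ⟨c, hc⟩ := B.exists_relIndex
  have horb : Nat.card ↥(Dz H z ⊓ W) * (H.index - 1) =
      Nat.card W * W.relIndex (Ker H T) := by
    haveI : Fintype (G ⧸ H) := Fintype.ofFinite _
    have horb : MulAction.orbit (Ker H T) (pb H z) = {pa H}ᶜ := by
      ext c
      constructor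
      · rintro ⟨u, rfl⟩ he
        exact B.pb_ne (MulAction.injective (u : G)
          ((Set.mem_singleton_iff.1 he).trans ((smul_pa_iff H).2 u.2.1).symm))
      · intro hc
        obtain ⟨u, hu, hc⟩ := B.exists_Ker_smul c hc
        exact ⟨⟨u, hu⟩, hc⟩
    have h1 := Nat.card_congr (MulAction.orbitProdStabilizerEquivGroup (Ker H T) (pb H z))
    rw [Nat.card_prod] at h1
    have h2 : Nat.card (MulAction.orbit (Ker H T) (pb H z)) = H.index - 1 := by
      rw [horb, Nat.card_coe_set_eq, Set.ncard_compl, Set.ncard_singleton, Subgroup.index_eq_card]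
    have h3 : Nat.card (MulAction.stabilizer (Ker H T) (pb H z)) = Nat.card ↥(Dz H z ⊓ W) := by
      refine Nat.card_congr
        { toFun := fun u => ⟨u.1, ⟨(smul_pa_iff H).2 u.1.2.1, u.2⟩, B.odd_mem_W u.1.2
            (B.odd_of_mem_D ⟨(smul_pa_iff H).2 u.1.2.1, u.2⟩)⟩
          invFun := fun v => ⟨⟨v, B.W_le_Ker v.2.2⟩, v.2.1.2⟩
          left_inv := fun u => rfl
          right_inv := fun v => rfl }
    rw [H82.card_mul_relIndex B.W_le_Ker, ← h1, h2, h3, Nat.mul_comm]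
  have hW : Nat.card W = Nat.card ↥(Dz H z ⊓ W) * (Dz H z ⊓ W).relIndex W :=
    (H82.card_mul_relIndex inf_le_right).symm
  rw [hW, mul_assoc] at horb
  rw [Nat.eq_of_mul_eq_mul_left Nat.card_pos horb]
  refine Nat.Coprime.mul_right B.coprime_K ?_
  rw [hc]
  exact Nat.Coprime.pow_right c (Nat.coprime_two_right.2
    (B.D_odd.of_dvd_nat (card_dvd_of_le inf_le_left)))

/-- The linear character. -/
theorem exists_mu (hK : Dz H z ⊓ W ≠ ⊥) :
    ∃ μ : H →* ℂˣ, (∀ (x : G) (hx : x ∈ Dz H z),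
        μ ⟨z * x * z, B.D_le (B.inv_mem_D_conj hx)⟩ = μ ⟨x, B.D_le hx⟩) ∧
      (∀ h : H, ∃ n : ℕ, Odd n ∧ μ h ^ n = 1) ∧
      ∃ (k : G) (hk : k ∈ Dz H z ⊓ W), μ ⟨k, B.D_le hk.1⟩ ≠ 1 := by
  classical
  set D' := (Dz H z).subgroupOf H with hD'
  obtain ⟨φ, k, hk, hφ⟩ : ∃ (φ : D' →* ℂˣ) (k : G) (hk : k ∈ Dz H z ⊓ W),
      φ ⟨⟨k, B.D_le hk.1⟩, hk.1⟩ ≠ 1 := B.exists_phi hK
  have hD'odd : Odd (Nat.card D') := by
    rw [hD', Nat.card_congr (Subgroup.subgroupOfEquivOfLe B.D_le).toEquiv]; exact B.D_odd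
  have hφodd : ∀ y : D', φ y ^ Nat.card D' = 1 := fun y => by
    rw [← map_pow, pow_card_eq_one', map_one]
  set μ₀ : H →* ℂˣ := MonoidHom.transfer φ with hμ₀
  haveI : Fintype (H ⧸ D') := Fintype.ofFinite _
  have hμ₀odd : ∀ h : H, μ₀ h ^ Nat.card D' = 1 := fun h => by
    haveI : Fintype (Quotient (MulAction.orbitRel (zpowers h) (H ⧸ D'))) := Fintype.ofFinite _
    rw [hμ₀, MonoidHom.transfer_eq_prod_quotient_orbitRel_zpowers_quot, ← Finset.prod_pow]
    exact Finset.prod_eq_one fun q _ => hφodd _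
  -- the value at `k`
  set kH : H := ⟨k, B.D_le hk.1⟩ with hkH
  set kD : D' := ⟨kH, hk.1⟩ with hkD
  have hval : μ₀ kH = φ kD ^ D'.index := by
    haveI : Fintype (Quotient (MulAction.orbitRel (zpowers kH) (H ⧸ D'))) := Fintype.ofFinite _
    rw [hμ₀, MonoidHom.transfer_eq_prod_quotient_orbitRel_zpowers_quot,
      Subgroup.index_eq_sum_minimalPeriod D' kH, ← Finset.prod_pow_eq_pow_sum]
    refine Finset.prod_congr rfl fun q _ => ?_
    have hmem := QuotientGroup.out_conj_pow_minimalPeriod_mem D' kH q.out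
    set m := Function.minimalPeriod (kH • ·) q.out
    set c := q.out.out with hc
    have hd : (c : G)⁻¹ * k ^ m * c ∈ Dz H z := by
      have h' : ((c⁻¹ * kH ^ m * c : H) : G) ∈ Dz H z := hmem
      rw [Subgroup.coe_mul, Subgroup.coe_mul, Subgroup.coe_inv, SubmonoidClass.coe_pow] at h'
      exact h'
    obtain ⟨d, hdD, hdc⟩ := B.exists_D_fusion (pow_mem hk m) c.2 hd
    rw [← map_pow]
    have e : (⟨c⁻¹ * kH ^ m * c, hmem⟩ : D') = (⟨⟨d, B.D_le hdD⟩, hdD⟩ : D')⁻¹ * kD ^ m *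
        ⟨⟨d, B.D_le hdD⟩, hdD⟩ := by
      apply Subtype.ext; apply Subtype.ext
      show (c : G)⁻¹ * k ^ m * c = d⁻¹ * k ^ m * d
      exact hdc.symm
    rw [e, map_mul, map_mul, map_inv, mul_right_comm, inv_mul_cancel, one_mul]
  have hindex : D'.index = H.index - 1 := by
    have h := B.card_D_mul_index
    rw [← Subgroup.card_mul_index D',
      Nat.card_congr (Subgroup.subgroupOfEquivOfLe B.D_le).toEquiv] at h
    exact (Nat.eq_of_mul_eq_mul_left Nat.card_pos h).symm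
  have hμ₀k : μ₀ kH ≠ 1 := fun h => hφ (by
    rw [hval, hindex] at h
    refine eq_one_of_coprime_pow B.card_K_coprime ?_ h
    rw [← map_pow, ← map_one φ]
    congr 1
    apply Subtype.ext; apply Subtype.ext
    show k ^ Nat.card ↥(Dz H z ⊓ W) = 1
    exact congrArg Subtype.val (pow_card_eq_one' (x := (⟨k, hk⟩ : ↥(Dz H z ⊓ W)))))
  -- correct the value at the generator
  obtain ⟨d, hd, hzd, -, hdec⟩ := B.exists_gen
  set dH : H := ⟨d, B.D_le hd⟩ with hdH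
  set N := (Ker H T).subgroupOf H with hNdef
  haveI hN : N.Normal := ⟨fun x hx h => B.Ker_conj h.2 hx⟩
  have hgen : ∀ x : H ⧸ N, x ∈ zpowers (dH : H ⧸ N) := by
    intro x
    obtain ⟨h, rfl⟩ := QuotientGroup.mk_surjective x
    obtain ⟨t, ht, ht1⟩ := B.exists_t
    obtain ⟨d₁, hd₁, hdt⟩ := B.exists_D_conj (B.S.T_le ht) (B.S.orderOf_two ht ht1)
      (mul_mem (mul_mem h.2 (B.S.T_le ht)) (inv_mem h.2)) (H67.invol_conj (B.S.orderOf_two ht ht1) h)
    obtain ⟨k₁, hk₁, i, rfl⟩ := hdec d₁ hd₁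
    refine mem_zpowers_iff.2 ⟨i, ?_⟩
    rw [← QuotientGroup.mk_zpow, QuotientGroup.eq]
    show ((dH ^ i : H) : G)⁻¹ * (h : G) ∈ Ker H T
    rw [SubgroupClass.coe_zpow]
    have htr : Triv W T ((k₁ * d ^ i)⁻¹ * h) := by
      refine B.triv_of_commute (mul_mem (inv_mem (B.D_le hd₁)) h.2) (B.S.T_le ht)
        (B.S.orderOf_two ht ht1) ?_
      calc (k₁ * d ^ i)⁻¹ * h * t = (k₁ * d ^ i)⁻¹ * (h * t * (h : G)⁻¹) * h := by group
        _ = (k₁ * d ^ i)⁻¹ * ((k₁ * d ^ i) * t * (k₁ * d ^ i)⁻¹) * h := by rw [hdt]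
        _ = t * ((k₁ * d ^ i)⁻¹ * h) := by group
    have h1 : (k₁ * d ^ i)⁻¹ * (h : G) ∈ Ker H T :=
      B.mem_Ker.2 ⟨mul_mem (inv_mem (B.D_le hd₁)) h.2, htr⟩
    have h2 : (d ^ i)⁻¹ * k₁ * d ^ i ∈ Ker H T :=
      B.W_le_Ker (B.S.W_conj' (B.D_le (zpow_mem hd i)) hk₁.2)
    have h3 := mul_mem h2 h1
    rwa [show (d ^ i)⁻¹ * k₁ * d ^ i * ((k₁ * d ^ i)⁻¹ * h) = (d ^ i)⁻¹ * h by group] at h3
  set m := orderOf (dH : H ⧸ N) with hm
  have hdm : d ^ m = 1 := by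
    have h0 : ((dH ^ m : H) : G) ∈ Ker H T :=
      (QuotientGroup.eq_one_iff (N := N) (dH ^ m)).1 (by rw [QuotientGroup.mk_pow, hm, pow_orderOf_eq_one])
    rw [SubmonoidClass.coe_pow] at h0
    have hde : d ^ m ∈ Dz H z ⊓ W :=
      ⟨pow_mem hd m, B.odd_mem_W h0 (B.odd_of_mem_D (pow_mem hd m))⟩
    have h1 : z * d ^ m * z = (d ^ m)⁻¹ := by
      conv_lhs => rw [show z * d ^ m * z = z * d ^ m * z⁻¹ by rw [H70.inv_eq_self_of_two B.z2]]
      rw [← conj_pow, H70.inv_eq_self_of_two B.z2, hzd, inv_pow]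
    rw [B.comm_z hde, mul_assoc, B.zz, mul_one] at h1
    exact eq_one_of_coprime_pow (Nat.coprime_two_left.2 (B.odd_of_mem_D hde.1))
      (by rw [pow_two]; nth_rewrite 2 [h1]; exact mul_inv_cancel _) (pow_orderOf_eq_one _)
  have hmodd : Odd m := by
    refine (B.odd_of_mem_D hd).of_dvd_nat ((orderOf_map_dvd (QuotientGroup.mk' N) dH).trans ?_)
    rw [show orderOf dH = orderOf d from (Subgroup.orderOf_coe dH).symm]
  have hord : orderOf ((μ₀ dH)⁻¹) ∣ orderOf (dH : H ⧸ N) := by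
    rw [← hm, orderOf_inv]
    refine orderOf_dvd_of_pow_eq_one ?_
    rw [← map_pow, show dH ^ m = 1 from Subtype.ext (by
      rw [SubmonoidClass.coe_pow]; exact hdm), map_one]
  set η : H →* ℂˣ := (monoidHomOfForallMemZpowers hgen hord).comp (QuotientGroup.mk' N) with hη
  have hηd : η dH = (μ₀ dH)⁻¹ :=
    monoidHomOfForallMemZpowers_apply_gen hgen hord
  have hηN : ∀ x ∈ N, η x = 1 := fun x hx => by
    rw [hη, MonoidHom.comp_apply, QuotientGroup.mk'_apply, (QuotientGroup.eq_one_iff x).2 hx,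
      map_one]
  refine ⟨μ₀ * η, fun x hx => ?_, fun h => ?_, k, hk, ?_⟩
  · obtain ⟨kx, hkx, i, rfl⟩ := hdec x hx
    have hd1 : (μ₀ * η) dH = 1 := by rw [MonoidHom.mul_apply, hηd, mul_inv_cancel]
    have e1 : (⟨z * (kx * d ^ i) * z, B.D_le (B.inv_mem_D_conj hx)⟩ : H) =
        ⟨kx, B.D_le hkx.1⟩ * dH ^ (-i) := by
      apply Subtype.ext
      rw [Subgroup.coe_mul, SubgroupClass.coe_zpow]
      show z * (kx * d ^ i) * z = kx * d ^ (-i)
      have h1 : z * d ^ i * z = d ^ (-i) := by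
        conv_lhs => rw [show z * d ^ i * z = z * d ^ i * z⁻¹ by rw [H70.inv_eq_self_of_two B.z2]]
        rw [← conj_zpow, H70.inv_eq_self_of_two B.z2, hzd, inv_zpow']
      rw [← h1, ← mul_assoc, ← mul_assoc, ← mul_assoc, B.comm_z hkx]
    have e2 : (⟨kx * d ^ i, B.D_le hx⟩ : H) = ⟨kx, B.D_le hkx.1⟩ * dH ^ i := by
      apply Subtype.ext
      rw [Subgroup.coe_mul, SubgroupClass.coe_zpow]
    rw [e1, e2, map_mul, map_mul, map_zpow, map_zpow, hd1, one_zpow, one_zpow]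
  · refine ⟨Nat.card D' * m, hD'odd.mul hmodd, ?_⟩
    rw [MonoidHom.mul_apply, mul_pow, pow_mul, hμ₀odd, one_pow, one_mul, pow_mul', ← map_pow]
    rw [hηN (h ^ m) ?_, one_pow]
    rw [← QuotientGroup.eq_one_iff, QuotientGroup.mk_pow]
    obtain ⟨i, hi⟩ := mem_zpowers_iff.1 (hgen (h : H ⧸ N))
    rw [← hi, ← zpow_natCast, ← zpow_mul, mul_comm, zpow_mul, zpow_natCast, hm,
      pow_orderOf_eq_one, one_zpow]
  · rw [MonoidHom.mul_apply, hηN kH (B.W_le_Ker hk.2 : k ∈ Ker H T), mul_one]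
    exact hμ₀k

end Base

end H61.GI
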