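import Cfsg.Agent.H61.GI.Values

/-!
Reality of the constituents of the induced character on 2-elements, and the Sylow 2-subgroup of
`H` supplied by the oracle (helper61).
-/

set_option autoImplicit false
set_option linter.style.haveILetI false
set_option linter.unusedSectionVars false

open Cfsg
open scoped ComplexConjugate

namespace H61.GI

open Subgroup

universe u

variable {G : Type u} [Group G] [Fintype G] {H : Subgroup G}

/-- The constituents of a character induced from a linear character of odd order are real on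
2-elements if their degrees differ. -/
theorem apply_inv_two (μ : H →* ℂˣ) (hodd : ∀ h : H, ∃ n : ℕ, Odd n ∧ μ h ^ n = 1)
    (heven : Even (Nat.card G)) {A A' : IrrCharacter G} (hθ : indFun H (lin μ) = (A : G → ℂ) + (A' : G → ℂ))
    (hdeg : (A : G → ℂ) 1 ≠ (A' : G → ℂ) 1) {x : G} {j : ℕ} (hx : x ^ 2 ^ j = 1) :
    (A : G → ℂ) x⁻¹ = (A : G → ℂ) x := by
  classical
  obtain ⟨e, r, hr, hN⟩ := Nat.exists_eq_pow_mul_and_not_dvd (Nat.card_pos (α := G)).ne' 2 (by norm_num)
  have hr' : Odd r := Nat.not_even_iff_odd.1 fun h => hr (even_iff_two_dvd.1 h)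
  have he : 0 < e := Nat.pos_of_ne_zero fun h => by
    rw [h, pow_zero, one_mul] at hN
    exact hr (hN ▸ even_iff_two_dvd.1 heven)
  have hcop : Nat.Coprime (2 ^ e) r := Nat.Coprime.pow_left e (Nat.coprime_two_left.2 hr')
  obtain ⟨k, hk1, hk2⟩ := Nat.chineseRemainder hcop.symm 1 (2 ^ e - 1)
  have hk2' : 2 ^ e ∣ k + 1 := by
    have h := hk2.add_right 1
    rw [Nat.sub_add_cancel (Nat.one_le_two_pow)] at h
    exact Nat.modEq_zero_iff_dvd.1 (h.trans (Nat.modEq_zero_iff_dvd.2 dvd_rfl))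
  have hkodd : ¬ 2 ∣ k := fun h => by
    have h2 : 2 ∣ k + 1 := (dvd_pow_self 2 he.ne').trans hk2'
    omega
  have hkr : Nat.Coprime k r := by
    rw [Nat.Coprime, Nat.gcd_comm, Nat.gcd_rec, hk1, ← Nat.gcd_rec]
    simp
  have hkG : Nat.Coprime k (Nat.card G) := by
    rw [hN]
    exact Nat.Coprime.mul_right (Nat.Coprime.pow_right e
      ((Nat.prime_two.coprime_iff_not_dvd.2 hkodd).symm)) hkr
  obtain ⟨σ, hσ⟩ := H25.exists_ringEquiv_pow_rootOfUnity (Nat.card G) k Nat.card_pos hkG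
  have hσμ : ∀ h : H, σ (μ h : ℂ) = (μ h : ℂ) := by
    intro h
    have hG : μ h ^ Nat.card G = 1 := by
      obtain ⟨m, hm⟩ := Subgroup.card_subgroup_dvd_card H
      rw [hm, pow_mul, ← map_pow, pow_card_eq_one', map_one, one_pow]
    obtain ⟨n, hn, hpow⟩ := hodd h
    have hr1 : μ h ^ r = 1 := by
      refine eq_one_of_coprime_pow (a := 2 ^ e) (b := n)
        (Nat.Coprime.pow_left e (Nat.coprime_two_left.2 hn)) ?_ ?_
      · rw [← pow_mul, mul_comm, ← hN, hG]
      · rw [← pow_mul, mul_comm, pow_mul, hpow, one_pow]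
    rw [hσ _ (by rw [← Units.val_pow_eq_pow_val, hG, Units.val_one]), ← Units.val_pow_eq_pow_val]
    refine congrArg Units.val ?_
    rw [pow_eq_pow_mod k hr1, hk1, ← pow_eq_pow_mod 1 hr1, pow_one]
  have hθσ : ∀ g : G, indFun H (lin μ) (g ^ k) = indFun H (lin μ) g := by
    intro g
    rw [← H25.map_character_apply (H12.IsCharacter.indFun
      (H12.isCharacter_of_isIrrCharacter (H12.isIrrCharacter_monoidHom μ))) σ k hσ,
      H12.indFun_apply, map_mul, map_inv₀, map_natCast, map_sum]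
    congr 1
    refine Finset.sum_congr rfl fun y _ => ?_
    rw [H12.extendByZero_eq_dite]
    split_ifs with hy
    · exact hσμ _
    · exact map_zero σ
  let Aσ : IrrCharacter G := ⟨_, H25.isIrrCharacter_comp_pow A.2 hkG⟩
  let A'σ : IrrCharacter G := ⟨_, H25.isIrrCharacter_comp_pow A'.2 hkG⟩
  have hsum : indFun H (lin μ) = (Aσ : G → ℂ) + (A'σ : G → ℂ) := by
    funext g
    rw [← hθσ g, hθ]
    rfl
  have hmem : Aσ = A ∨ Aσ = A' := by
    by_contra hcon
    push Not at hcon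
    have h := congrArg (fun φ => classInner φ (Aσ : G → ℂ)) (hθ.symm.trans hsum)
    simp only [H12.classInner_add_left, H12.classInner_irr] at h
    rw [if_neg (Ne.symm hcon.1), if_neg (Ne.symm hcon.2)] at h
    split_ifs at h <;> norm_num at h
  have hAσ : ∀ g : G, (A : G → ℂ) (g ^ k) = (A : G → ℂ) g := by
    rcases hmem with h | h
    · exact fun g => congrFun (congrArg Subtype.val h) g
    · exfalso
      apply hdeg
      have h' := congrFun (congrArg Subtype.val h) (1 : G)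
      simpa [Aσ] using h'
  have hxe : x ^ 2 ^ e = 1 := by
    refine orderOf_dvd_iff_pow_eq_one.1 (Nat.Coprime.dvd_of_dvd_mul_right ?_ (hN ▸ orderOf_dvd_natCard x))
    exact Nat.Coprime.coprime_dvd_left (orderOf_dvd_of_pow_eq_one hx)
      (Nat.Coprime.pow_left j (Nat.coprime_two_left.2 hr'))
  have hxk : x ^ k = x⁻¹ := by
    refine eq_inv_of_mul_eq_one_left ?_
    rw [← pow_succ]
    obtain ⟨m, hm⟩ := hk2'
    rw [hm, pow_mul, hxe, one_pow]
  rw [← hxk, hAσ]

namespace Base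

variable {W T : Subgroup G} {z : G} (B : Base G H W T z)
include B

/-- The Sylow 2-subgroup of `H`. -/
theorem exists_sylow_data (hK : Dz H z ⊓ W ≠ ⊥) :
    ∃ P : Subgroup G, T ≤ P ∧ P ≤ H ∧ IsPGroup 2 P ∧ Nat.card P = W.relIndex (Ker H T) ∧
      SzData P T := by
  classical
  haveI : Fact (Nat.Prime 2) := ⟨Nat.prime_two⟩
  set p := (Nat.card ↥(Dz H z ⊓ W)).minFac with hp
  haveI : Fact p.Prime := ⟨Nat.minFac_prime fun h => hK (Subgroup.card_eq_one.1 h)⟩
  obtain ⟨R, hRK, hR⟩ := B.exists_sylow_W (p := p) (Nat.minFac_dvd _)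
  have hRne : R ≠ ⊥ := by
    intro h
    apply hR.not_dvd
    rw [h, Subgroup.relIndex_bot_left]
    exact (Nat.minFac_dvd _).trans (Subgroup.card_dvd_of_le inf_le_right)
  obtain ⟨M, hMdef⟩ : ∃ M, M = Subgroup.normalizer (R : Set G) := ⟨_, rfl⟩
  have hM : M ≠ ⊤ := hMdef ▸ B.normalizer_ne_top ((hRK.trans inf_le_left).trans B.D_le) hRne
  have hcent : ∀ g : G, (∀ x ∈ R, g * x = x * g) → g ∈ M := by
    intro g hg
    rw [hMdef]
    refine H82.mem_normalizer_of_map_le ?_
    rintro _ ⟨x, hx, rfl⟩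
    show g * x * g⁻¹ ∈ R
    rwa [hg x hx, mul_inv_cancel_right]
  have hzM : z ∈ M := hcent z fun x hx => B.comm_z (hRK hx)
  have hTM : T ≤ M := fun s hs => hcent s fun x hx => B.comm_WT (hRK hx).2 hs
  obtain ⟨P, hP, hTP⟩ := H82.exists_sylowIn_ge (M := H ⊓ M)
    (Q := T) B.S.sylowIn_T.isPGroup (le_inf B.S.T_le hTM)
  have hdata : SzData P T := by
    have h := B.oracle M hM (fun h => B.zH (h hzM)) 1 (one_mem _)
    rw [H82.map_conj_one] at h
    exact h hTM P hP hTP
  refine ⟨P, hTP, hP.le.trans inf_le_left, hP.isPGroup, ?_, hdata⟩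
  -- Frattini
  set W' := W.subgroupOf H with hW'
  set M' := M.subgroupOf H with hM'
  haveI : W'.Normal := ⟨fun w hw h => B.S.W_conj h h.2 w hw⟩
  have htop : M' ⊔ W' = ⊤ := by
    refine eq_top_iff.2 fun h _ => ?_
    have hmap : W.map (MulAut.conj (h : G)).toMonoidHom = W :=
      H82.mem_normalizer_iff_map.1 (B.mem_normalizer_W h.2)
    obtain ⟨w, hw, hwR⟩ := (hmap ▸ hR.map_equiv (h : G)).exists_conj hR
    have hwh : (w * h : G) ∈ M := by
      rw [hMdef, H82.mem_normalizer_iff_map, H82.map_conj_mul]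
      exact hwR
    have e : h = (⟨w, B.S.W_le hw⟩ : H)⁻¹ * (⟨w, B.S.W_le hw⟩ * h) := (inv_mul_cancel_left _ _).symm
    rw [e]
    refine mul_mem (inv_mem (Subgroup.mem_sup_right (show (⟨w, B.S.W_le hw⟩ : H) ∈ W' from hw))) ?_
    exact Subgroup.mem_sup_left (show (⟨w, B.S.W_le hw⟩ : H) * h ∈ M' from hwh)
  have hidx : Odd M'.index := by
    have h1 := Subgroup.relIndex_sup_right (H := M') (K := W')
    rw [htop, Subgroup.relIndex_top_right] at h1
    have h2 := M'.card_mul_index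
    have h3 := W'.card_mul_index
    have h4 : Nat.card ↥(W' ⊓ M') * W'.relIndex M' = Nat.card M' := by
      rw [← Subgroup.inf_relIndex_right]
      exact H82.card_mul_relIndex inf_le_right
    rw [h1] at h3
    rw [← h4, mul_right_comm, ← h3] at h2
    have h5 := Nat.eq_of_mul_eq_mul_right (Nat.pos_of_ne_zero
      (by rw [Subgroup.relIndex]; exact (W'.subgroupOf M').index_ne_zero_of_finite)) h2
    exact B.S.W_odd.of_dvd_nat (Dvd.intro_left _ (h5.trans
      (Nat.card_congr (Subgroup.subgroupOfEquivOfLe B.S.W_le).toEquiv)))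
  have hPH : Odd (P.relIndex H) := by
    rw [← Subgroup.relIndex_mul_relIndex P (H ⊓ M) H hP.le inf_le_left]
    refine (Nat.odd_mul.2 ⟨Nat.not_even_iff_odd.1 fun h => hP.not_dvd (even_iff_two_dvd.1 h), ?_⟩)
    rw [inf_comm, Subgroup.inf_relIndex_right]
    exact hidx
  obtain ⟨c, hc⟩ := B.exists_relIndex
  obtain ⟨m, hm⟩ := IsPGroup.iff_card.1 hP.isPGroup
  rw [hc, hm]
  have e1 := H82.card_mul_relIndex (hP.le.trans inf_le_left)
  have e2 := B.card_D_mul_index
  have e3 := B.card_K_index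
  have e4 := H82.card_mul_relIndex B.W_le_Ker
  rw [hc] at e4
  rw [hm] at e1
  have key : 2 ^ m * (P.relIndex H * Nat.card ↥(W ⊓ Dz H z)) =
      2 ^ c * (Nat.card (Dz H z) * Nat.card W) :=
    calc 2 ^ m * (P.relIndex H * Nat.card ↥(W ⊓ Dz H z))
        = (2 ^ m * P.relIndex H) * Nat.card ↥(W ⊓ Dz H z) := by ring
      _ = Nat.card (Dz H z) * (H.index - 1) * Nat.card ↥(W ⊓ Dz H z) := by rw [e1, e2]
      _ = Nat.card (Dz H z) * (Nat.card ↥(W ⊓ Dz H z) * (H.index - 1)) := by ring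
      _ = Nat.card (Dz H z) * (Nat.card W * 2 ^ c) := by rw [e3, e4]
      _ = _ := by ring
  have o1 : Odd (P.relIndex H * Nat.card ↥(W ⊓ Dz H z)) :=
    hPH.mul (B.S.W_odd.of_dvd_nat (Subgroup.card_dvd_of_le inf_le_left))
  have o2 : Odd (Nat.card (Dz H z) * Nat.card W) := B.D_odd.mul B.S.W_odd
  refine Nat.dvd_antisymm ?_ ?_
  · exact Nat.Coprime.dvd_of_dvd_mul_right (Nat.Coprime.pow_left m (Nat.coprime_two_left.2 o2))
      (key ▸ Dvd.intro _ rfl)
  · exact Nat.Coprime.dvd_of_dvd_mul_right (Nat.Coprime.pow_left c (Nat.coprime_two_left.2 o1))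
      (key.symm ▸ Dvd.intro _ rfl)

end Base

end H61.GI
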